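import Groth.Agent.Lib.ModM1.ClosedImm
import Groth.Agent.Lib.Twist.Pullback
import Groth.Prelude.Def_ClSub2

/-!
# The quotient by the ideal of a closed immersion
-/

set_option autoImplicit false
set_option backward.isDefEq.respectTransparency false

universe u

open CategoryTheory CategoryTheory.Limits AlgebraicGeometry Opposite

namespace Groth.Agent.HilbRS3

variable {X : Scheme.{u}}

/-- An isomorphism pushes the structure sheaf to the structure sheaf. -/
theorem nonempty_push_unit_of_isIso {Z W : Scheme.{u}} (e : Z ⟶ W) [IsIso e] :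
    Nonempty ((Scheme.Modules.pushforward e).obj (Coh.structureModule Z) ≅ Coh.structureModule W) := by
  haveI := M1.isIso_unit_of_ker_smul e (Coh.structureModule W) (M1.isQCoh_structureModule W) fun U a ha s => by
    rw [Scheme.Hom.ker_apply, RingHom.mem_ker] at ha
    have h0 : a = 0 := (ConcreteCategory.bijective_of_isIso (e.app U.1)).1 (ha.trans (map_zero _).symm)
    rw [h0, zero_smul]
  exact ⟨((asIso ((Scheme.Modules.pullbackPushforwardAdjunction e).unit.app (Coh.structureModule W))) ≪≫
    (Scheme.Modules.pushforward e).mapIso (Twist.pullbackUnitIso e)).symm⟩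

/-- A closed subscheme is the one cut out by its ideal. -/
theorem exists_iso_subscheme {Z : Scheme.{u}} (i : Z ⟶ X) [IsClosedImmersion i] :
    ∃ e : Z ≅ i.ker.subscheme, e.hom ≫ i.ker.subschemeι = i := by
  let a := IsClosedImmersion.lift i.ker.subschemeι i (le_of_eq (Scheme.IdealSheafData.ker_subschemeι _))
  let b := IsClosedImmersion.lift i i.ker.subschemeι (le_of_eq (Scheme.IdealSheafData.ker_subschemeι _).symm)
  have ha : a ≫ i.ker.subschemeι = i := IsClosedImmersion.lift_fac _ _ _
  have hb : b ≫ i = i.ker.subschemeι := IsClosedImmersion.lift_fac _ _ _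
  refine ⟨⟨a, b, ?_, ?_⟩, ha⟩
  · rw [← cancel_mono i, Category.assoc, hb, ha, Category.id_comp]
  · rw [← cancel_mono i.ker.subschemeι, Category.assoc, ha, hb, Category.id_comp]

theorem nonempty_quotMod_ker {Z : Scheme.{u}} (i : Z ⟶ X) [IsClosedImmersion i] :
    Nonempty (ClSub.quotMod i.ker ≅ (Scheme.Modules.pushforward i).obj (Coh.structureModule Z)) := by
  obtain ⟨e, he⟩ := exists_iso_subscheme i
  obtain ⟨u⟩ := nonempty_push_unit_of_isIso e.hom
  exact ⟨(Scheme.Modules.pushforward i.ker.subschemeι).mapIso u.symm ≪≫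
    (Scheme.Modules.pushforwardComp e.hom i.ker.subschemeι).app _ ≪≫
    (Scheme.Modules.pushforwardCongr he).app _⟩
end Groth.Agent.HilbRS3
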