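import Groth.Agent.Lib.ArtFun.Tangent
import Groth.Agent.Lib.ArtFun.Action

/-!
# Fibres of functors satisfying the Rim–Schlessinger condition along semismall extensions
-/

set_option autoImplicit false

universe u v

open CategoryTheory

namespace Groth.Agent.HilbRS3

open ArtFun ArtFun.Art ArtFunLib

variable {k : Type u} [Field k]

/-- The doubling of a semismall extension. -/
theorem exists_doubled' {B A : Art k k} (p : B ⟶ A) (hp : IsSemismallExt p) {n : ℕ}
    (b : Module.Basis (Fin n) k (RingHom.ker p.toAlgHom)) :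
    ∃ (P : Art k k) (p₁ p₂ : P ⟶ B) (g : P ⟶ tn k k n), IsFibreProd p₁ p₂ p p ∧
      IsFibreProd p₁ g (toBase B) (toBase (tn k k n)) := by
  obtain ⟨P, p₁, p₂, hP⟩ := exists_isFibreProd p p hp.1
  let d : P →ₗ[k] RingHom.ker p.toAlgHom :=
    { toFun := fun z => ⟨p₂ z - p₁ z, RingHom.mem_ker.2 (by
        show p (p₂ z - p₁ z) = 0
        rw [map_sub, hP.w_apply, sub_self])⟩
      map_add' := fun x y => Subtype.ext (by
        show p₂ (x + y) - p₁ (x + y) = (p₂ x - p₁ x) + (p₂ y - p₁ y)
        rw [map_add, map_add]; abel)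
      map_smul' := fun c x => Subtype.ext (by
        show p₂.toAlgHom (c • x) - p₁.toAlgHom (c • x) = c • (p₂.toAlgHom x - p₁.toAlgHom x)
        rw [map_smul, map_smul, smul_sub]) }
  have hd : ∀ x y : P, d (x * y) = P.res x • d y + P.res y • d x := fun x y => by
    refine Subtype.ext ?_
    show p₂ (x * y) - p₁ (x * y) = P.res x • (p₂ y - p₁ y) + P.res y • (p₂ x - p₁ x)
    have e1 : p₂ x * (p₂ y - p₁ y) = algebraMap k B (P.res x) * (p₂ y - p₁ y) :=
      mul_eq_of_res_eq hp (by rw [res_app, AlgHom.commutes]; rfl) (by rw [map_sub, hP.w_apply, sub_self])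
    have e2 : p₁ y * (p₂ x - p₁ x) = algebraMap k B (P.res y) * (p₂ x - p₁ x) :=
      mul_eq_of_res_eq hp (by rw [res_app, AlgHom.commutes]; rfl) (by rw [map_sub, hP.w_apply, sub_self])
    rw [map_mul, map_mul, Algebra.smul_def, Algebra.smul_def]
    linear_combination e1 + e2
  let φ : P →ₗ[k] (Fin n → k) := b.equivFun.toLinearMap ∘ₗ d
  have hφ1 : φ 1 = 0 := by
    show b.equivFun (d 1) = 0
    rw [show d 1 = 0 from Subtype.ext (by show p₂ 1 - p₁ 1 = 0; rw [map_one, map_one, sub_self]), map_zero]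
  let g₀ : P →ₐ[k] TrivSqZeroExt k (Fin n → k) :=
    { toFun := fun z => (P.res z, φ z)
      map_one' := TrivSqZeroExt.ext (map_one P.res) hφ1
      map_mul' := fun x y => TrivSqZeroExt.ext (map_mul P.res x y) (by
        show φ (x * y) = P.res x • φ y + MulOpposite.op (P.res y) • φ x
        rw [op_smul_eq_smul]
        show b.equivFun (d (x * y)) = _
        rw [hd, map_add, map_smul, map_smul]
        rfl)
      map_zero' := TrivSqZeroExt.ext (map_zero P.res) (map_zero φ)
      map_add' := fun x y => TrivSqZeroExt.ext (map_add P.res x y) (map_add φ x y)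
      commutes' := fun c => TrivSqZeroExt.ext (P.res.commutes c) (by
        show φ (algebraMap k P c) = 0
        rw [Algebra.algebraMap_eq_smul_one, map_smul, hφ1, smul_zero]) }
  let g : P ⟶ tn k k n := Art.homMk g₀ (AlgHom.ext fun _ => rfl)
  refine ⟨P, p₁, p₂, g, hP, (eq_toBase _).trans (eq_toBase _).symm, fun x y e1 e2 => ?_, fun a ε e => ?_⟩
  · have h : φ x = φ y := congrArg TrivSqZeroExt.snd e2
    have h' := congrArg Subtype.val (b.equivFun.injective h : d x = d y)
    refine hP.inj x y e1 ?_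
    change p₂ x - p₁ x = p₂ y - p₁ y at h'
    rw [e1] at h'
    exact sub_left_injective h'
  · let v := b.equivFun.symm (TrivSqZeroExt.snd ε)
    have hv : p v.1 = 0 := RingHom.mem_ker.1 v.2
    obtain ⟨z, h1, h2⟩ := hP.surj a (a + v.1) (by rw [map_add, hv, add_zero])
    refine ⟨z, h1, TrivSqZeroExt.ext (R := k) (M := Fin n → k) ?_ ?_⟩
    · show P.res z = _
      rw [← res_app p₁, h1]
      exact e
    · show b.equivFun (d z) = _
      have : d z = v := Subtype.ext (by show p₂ z - p₁ z = v.1; rw [h1, h2]; ring)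
      rw [this, LinearEquiv.apply_symm_apply]

theorem finite_ker {B A : Art k k} (p : B ⟶ A) (hp : IsSemismallExt p) :
    Module.Finite k (RingHom.ker p.toAlgHom) := by
  haveI : Module.Finite B (RingHom.ker p.toAlgHom) := Module.IsNoetherian.finite _ _
  obtain ⟨s, hs⟩ := Module.Finite.fg_top (R := B) (M := RingHom.ker p.toAlgHom)
  refine ⟨⟨s, top_le_iff.1 fun v _ => ?_⟩⟩
  have hv : v ∈ Submodule.span B.carrier (s : Set (RingHom.ker p.toAlgHom)) := by rw [hs]; trivial
  induction hv using Submodule.span_induction with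
  | mem v hv => exact Submodule.subset_span hv
  | zero => exact zero_mem _
  | add v w _ _ hv hw => exact add_mem (hv trivial) (hw trivial)
  | smul a v _ hv =>
    have e : a • v = B.res a • v := Subtype.ext (by
      show a * v.1 = B.res a • v.1
      rw [Algebra.smul_def]
      exact mul_eq_of_res_eq hp (B.res.commutes (B.res a)).symm (RingHom.mem_ker.1 v.2))
    rw [e]
    exact Submodule.smul_mem _ _ (hv trivial)

/-- A non-empty fibre along a semismall extension is a torsor under the `n`-fold tangent space. -/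
theorem nonempty_fibre_equiv {F : Art k k ⥤ Type v} (h0 : H0 F) (hrs : RS F) {B A : Art k k} (p : B ⟶ A)
    (hp : IsSemismallExt p) {n : ℕ} (b : Module.Basis (Fin n) k (RingHom.ker p.toAlgHom)) {x : F.obj A}
    (hne : ∃ y, F.map p y = x) :
    Nonempty ({y : F.obj B // F.map p y = x} ≃ (Fin n → F.obj (dual k k))) := by
  obtain ⟨y, hy⟩ := hne
  obtain ⟨P, p₁, p₂, g, hP, hP'⟩ := exists_doubled' p hp b
  let hσ : base k k ⟶ tn k k n := ⟨Algebra.ofId k _, AlgHom.ext fun c => (tn k k n).res.commutes c⟩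
  have hsq : IsLocalRing.maximalIdeal (tn k k n) ^ 2 = ⊥ := by
    rw [pow_two, eq_bot_iff, Ideal.mul_le]
    intro r hr s hs
    rw [mem_maximalIdeal_iff] at hr hs
    refine Ideal.mem_bot.2 (TrivSqZeroExt.ext (R := k) (M := Fin n → k) ?_ ?_)
    · exact (map_mul (tn k k n).res r s).trans (by rw [hr, zero_mul]; rfl)
    · show TrivSqZeroExt.fst r • TrivSqZeroExt.snd s + MulOpposite.op (TrivSqZeroExt.fst s) • TrivSqZeroExt.snd r = 0
      rw [op_smul_eq_smul, show TrivSqZeroExt.fst r = 0 from hr, show TrivSqZeroExt.fst s = 0 from hs, zero_smul,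
        zero_smul, add_zero]
  have hb := bijective_cmp_sqZero (RS.heps hrs) hσ hsq p₁ g hP'
  have hb' := hrs p₁ p₂ p p hP hp.1
  let W := {w : F.obj P // F.map p₁ w = y}
  let toFib : W → {y' : F.obj B // F.map p y' = x} := fun w => ⟨F.map p₂ w.1, by
    rw [← map_map_eq F hP.w, w.2, hy]⟩
  have h1 : Function.Bijective toFib := ⟨fun w w' e => Subtype.ext ((cmp_injective_iff F hP).1 hb'.1 _ _
      (w.2.trans w'.2.symm) (congrArg Subtype.val e)), fun y' => by
    obtain ⟨w, hw1, hw2⟩ := (cmp_surjective_iff F hP).1 hb'.2 y y'.1 (hy.trans y'.2.symm)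
    exact ⟨⟨w, hw1⟩, Subtype.ext hw2⟩⟩
  have h2 : Function.Bijective (fun w : W => F.map g w.1) :=
    ⟨fun w w' e => Subtype.ext ((cmp_injective_iff F hP').1 hb.1 _ _ (w.2.trans w'.2.symm) e), fun z => by
      obtain ⟨w, hw1, hw2⟩ := (cmp_surjective_iff F hP').1 hb.2 y z (subsingleton_base h0 _ _)
      exact ⟨⟨w, hw1⟩, hw2⟩⟩
  exact ⟨((Equiv.ofBijective toFib h1).symm.trans (Equiv.ofBijective _ h2)).trans
    (Equiv.ofBijective _ (tnProj_bijective h0 (RS.heps hrs) n))⟩

/-- Functors with trivial tangent space are injective along surjections. -/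
theorem map_injective_of_subsingleton {F : Art k k ⥤ Type v} (h0 : H0 F) (hrs : RS F)
    (ht : Subsingleton (F.obj (dual k k))) {B A : Art k k} (p : B ⟶ A) (hp : Function.Surjective p) :
    Function.Injective (F.map p) := by
  refine surjInduction (P := fun C B q => Function.Injective (F.map q))
    (fun C B e he => (map_bijective F e).1) (fun C B q hq x y hxy => ?_)
    (fun C D B q r _ _ ih ih' x y hxy => ?_) p hp
  · haveI := finite_ker q hq.isSemismallExt
    let b := Module.finBasis k (RingHom.ker q.toAlgHom)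
    obtain ⟨e⟩ := nonempty_fibre_equiv h0 hrs q hq.isSemismallExt b (x := F.map q x) ⟨x, rfl⟩
    haveI := ht
    exact congrArg Subtype.val (e.injective (Subsingleton.elim (e ⟨x, rfl⟩) (e ⟨y, hxy.symm⟩)))
  · rw [map_comp', map_comp'] at hxy
    exact ih (ih' hxy)

end Groth.Agent.HilbRS3
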