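import Groth.Agent.Lib.HilbRS3.Tangent

/-!
# First-order deformations from homomorphisms `I ⟶ O_Y`
-/

set_option autoImplicit false
set_option linter.style.haveILetI false
set_option backward.isDefEq.respectTransparency.types false

universe u

open CategoryTheory CategoryTheory.Limits AlgebraicGeometry IsLocalRing TopologicalSpace Opposite

namespace Groth.Agent.HilbRS3

open ArtFun ArtFun.Art

variable {k : Type u} [Field k] {X : Scheme.{u}} (x : X ⟶ Art.specPt k)

theorem isClosedImmersion_incl (A : Art k k) : IsClosedImmersion (XAincl x A) := by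
  haveI : IsClosedImmersion (specRes A) := IsClosedImmersion.spec_of_surjective _ A.res_surjective
  exact MorphismProperty.of_isPullback (P := @IsClosedImmersion) (isPullback_XAincl x A).flip inferInstance

theorem surjective_incl (A : Art k k) : Surjective (XAincl x A) := by
  haveI : Surjective (specRes A) := by
    refine ⟨fun p => ?_⟩
    haveI : Subsingleton (PrimeSpectrum A.carrier) := ⟨fun a b => PrimeSpectrum.ext
      ((IsLocalRing.eq_maximalIdeal (IsArtinianRing.isMaximal_of_isPrime a.asIdeal)).trans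
        (IsLocalRing.eq_maximalIdeal (IsArtinianRing.isMaximal_of_isPrime b.asIdeal)).symm)⟩
    exact ⟨(default : PrimeSpectrum k), Subsingleton.elim (α := PrimeSpectrum A.carrier) _ _⟩
  exact MorphismProperty.of_isPullback (P := @Surjective) (isPullback_XAincl x A).flip inferInstance

theorem exists_chart_eq (A : Art k k) (V : (XA x A).affineOpens) :
    ∃ U : X.affineOpens, XAincl x A ⁻¹ᵁ V.1 = U.1 ∧ (chart x A U).1 = V.1 := by
  haveI := isClosedImmersion_incl x A
  refine ⟨⟨XAincl x A ⁻¹ᵁ V.1, V.2.preimage _⟩, rfl, TopologicalSpace.Opens.ext (Set.ext fun p => ?_)⟩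
  obtain ⟨q, rfl⟩ := (surjective_incl x A).1 p
  show (pullback.fst x (specOver A)) (XAincl x A q) ∈ XAincl x A ⁻¹ᵁ V.1 ↔ _
  rw [← Scheme.Hom.comp_apply, XAincl_fst]
  rfl

theorem cι_res (A : Art k k) {U W : X.affineOpens} (h : W.1 ≤ U.1) (hle : (chart x A W).1 ≤ (chart x A U).1)
    (t : Γ(X, U.1)) : (XA x A).presheaf.map (homOfLE hle).op (cι x A U t) = cι x A W (X.presheaf.map (homOfLE h).op t) := by
  show _ = (pullback.fst x (specOver A)).app W.1 _
  rw [← ConcreteCategory.comp_apply, Scheme.Hom.naturality]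
  rfl

theorem eps_cι_eq_zero (U : X.affineOpens) {g : Γ(X, U.1)}
    (h : cσ x (Art.dual k k) U eps * cι x _ U g = 0) : g = 0 := by
  letI := (ThickAff3.str x U.1).toAlgebra
  refine (Module.forall_dual_apply_eq_zero_iff k g).1 fun l => ?_
  obtain ⟨l', hl1, hl2⟩ := (bc_base x (Art.dual k k) U).2.2 l.toAddMonoidHom (fun c s => by
    show l (algebraMap k Γ(X, U.1) c * s) = c * l s
    rw [← Algebra.smul_def, map_smul, smul_eq_mul])
  have := congrArg l' h
  rw [hl1, hl2, map_zero] at this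
  have key : (DualNumber.eps : DualNumber k) * algebraMap k (DualNumber k) (l g) = 0 := this
  have := congrArg TrivSqZeroExt.snd key
  simpa [TrivSqZeroExt.algebraMap_eq_inl] using this

variable {I₀ : X.IdealSheafData}

theorem idealIncl_zero (U : X.Opens) : M2.idealIncl I₀ (0 : Γ(ClSub.idealMod I₀, U)) = 0 := by
  have := M2.idealIncl_smul I₀ (0 : Γ(X, U)) (0 : Γ(ClSub.idealMod I₀, U))
  rwa [zero_smul, zero_mul] at this

theorem app_zero' {M N : X.Modules} (f : M ⟶ N) (U : X.Opens) : f.app U (0 : Γ(M, U)) = 0 := map_zero _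

/-- Sections `f + ε g` with `g = ψ f` modulo the ideal. -/
def InJ (ψ : ClSub.idealMod I₀ ⟶ ClSub.quotMod I₀) (U : X.affineOpens)
    (y : Γ(XA x (Art.dual k k), (chart x (Art.dual k k) U).1)) : Prop :=
  ∃ (m : Γ(ClSub.idealMod I₀, U.1)) (g : Γ(X, U.1)),
    y = cι x _ U (M2.idealIncl I₀ m) + cσ x _ U eps * cι x _ U g ∧
      (I₀.subschemeι.app U.1 g : Γ(ClSub.quotMod I₀, U.1)) = ψ.app U.1 m

theorem eps_sq (U : X.affineOpens) : cσ x (Art.dual k k) U eps * cσ x _ U eps = 0 := by
  rw [← map_mul, eps_mul_eps, map_zero]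

/-- The ideal of a chart. -/
noncomputable def jC (ψ : ClSub.idealMod I₀ ⟶ ClSub.quotMod I₀) (U : X.affineOpens) :
    Ideal Γ(XA x (Art.dual k k), (chart x (Art.dual k k) U).1) where
  carrier := {y | InJ x ψ U y}
  zero_mem' := ⟨0, 0, by rw [idealIncl_zero, map_zero, mul_zero, add_zero], by rw [app_zero']; exact map_zero _⟩
  add_mem' := by
    rintro _ _ ⟨m, g, rfl, hg⟩ ⟨m', g', rfl, hg'⟩
    refine ⟨m + m', g + g', ?_, ?_⟩
    · rw [M2.idealIncl_add, map_add, map_add]; ring
    · rw [map_add _ m m', ← hg, ← hg']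
      exact map_add _ _ _
  smul_mem' := by
    rintro y _ ⟨m, g, rfl, hg⟩
    obtain ⟨a, b, rfl⟩ := dual_decomp x U y
    refine ⟨a • m, a * g + b * M2.idealIncl I₀ m, ?_, ?_⟩
    · rw [smul_eq_mul, M2.idealIncl_smul, map_add, map_mul, map_mul, map_mul]
      linear_combination (cι x _ U b * cι x _ U g) * eps_sq x U
    · rw [Scheme.Modules.Hom.app_smul, ← hg]
      show I₀.subschemeι.app U.1 (a * g + b * M2.idealIncl I₀ m) = I₀.subschemeι.app U.1 a * I₀.subschemeι.app U.1 g
      rw [map_add, map_mul, map_mul, M2.subschemeι_app_idealIncl, mul_zero, add_zero]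

variable (ψ : ClSub.idealMod I₀ ⟶ ClSub.quotMod I₀)

theorem mem_ker_of_mem (U : X.affineOpens) {b : Γ(X, U.1)} (hb : b ∈ I₀.ideal U) :
    cσ x (Art.dual k k) U eps * cι x _ U b ∈ jC x ψ U :=
  ⟨0, b, by rw [idealIncl_zero, map_zero, zero_add], by
    rw [app_zero']
    rw [← Scheme.IdealSheafData.ker_subschemeι_app] at hb
    exact hb⟩

theorem jC_map {U W : X.affineOpens} (h : W.1 ≤ U.1)
    (hle : (chart x (Art.dual k k) W).1 ≤ (chart x (Art.dual k k) U).1) :
    (jC x ψ U).map ((XA x (Art.dual k k)).presheaf.map (homOfLE hle).op).hom = jC x ψ W := by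
  have hs : ((XA x (Art.dual k k)).presheaf.map (homOfLE hle).op) (cσ x _ U eps) = cσ x _ W eps :=
    ThickAff3.res_str _ hle eps
  let T := (jC x ψ U).map ((XA x (Art.dual k k)).presheaf.map (homOfLE hle).op).hom
  have hT : T ≤ jC x ψ W := by
    refine Ideal.map_le_iff_le_comap.2 ?_
    rintro _ ⟨m, g, rfl, hg⟩
    refine ⟨M1.mres (ClSub.idealMod I₀) h m, X.presheaf.map (homOfLE h).op g, ?_, ?_⟩
    · rw [map_add, map_mul, cι_res x _ h hle, cι_res x _ h hle, hs,
        show M2.idealIncl I₀ (M1.mres (ClSub.idealMod I₀) h m) = X.presheaf.map (homOfLE h).op (M2.idealIncl I₀ m)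
          from M2.idealIncl_res I₀ h m]
    · rw [M1.app_mres, ← hg]
      show I₀.subschemeι.app W.1 (X.presheaf.map (homOfLE h).op g) =
        I₀.subscheme.presheaf.map (homOfLE (I₀.subschemeι.preimage_mono h)).op (I₀.subschemeι.app U.1 g)
      rw [← ConcreteCategory.comp_apply, ← ConcreteCategory.comp_apply, Scheme.Hom.naturality]
      rfl
  refine le_antisymm hT fun y hy => ?_
  have hmul : ∀ (r b : Γ(X, W.1)), b ∈ I₀.ideal W → cσ x (Art.dual k k) W eps * cι x _ W (r * b) ∈ jC x ψ W :=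
    fun r b hb => mem_ker_of_mem x ψ W (Ideal.mul_mem_left _ r hb)
  have hker : ∀ b ∈ I₀.ideal W, cσ x (Art.dual k k) W eps * cι x _ W b ∈ T := by
    intro b hb
    rw [← I₀.map_ideal (U := W) (V := U) h] at hb
    induction hb using Submodule.span_induction with
    | mem b hb =>
      obtain ⟨a, ha, rfl⟩ := hb
      have := Ideal.mem_map_of_mem ((XA x (Art.dual k k)).presheaf.map (homOfLE hle).op).hom (mem_ker_of_mem x ψ U ha)
      rw [map_mul, cι_res x _ h hle, hs] at this
      exact this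
    | zero => rw [map_zero, mul_zero]; exact zero_mem _
    | add b c _ _ ih ih' => rw [map_add, mul_add]; exact add_mem ih ih'
    | smul r b _ ih => rw [smul_eq_mul, map_mul, mul_left_comm]; exact Ideal.mul_mem_left _ _ ih
  obtain ⟨m, g, rfl, hg⟩ := hy
  -- a section of `T` with the same special fibre
  have hlift : ∀ f ∈ I₀.ideal W, ∃ z ∈ T, cι₀ x _ W z = f := by
    intro f hf
    rw [← I₀.map_ideal (U := W) (V := U) h] at hf
    induction hf using Submodule.span_induction with
    | mem f hf =>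
      obtain ⟨a, ha, rfl⟩ := hf
      obtain ⟨n, rfl⟩ := (Set.ext_iff.1 (M2.range_idealIncl I₀ U) a).2 ha
      obtain ⟨g₀, hg₀⟩ := Scheme.Hom.app_surjective I₀.subschemeι U.1 U.2 (ψ.app U.1 n)
      have := Ideal.mem_map_of_mem ((XA x (Art.dual k k)).presheaf.map (homOfLE hle).op).hom
        (show _ ∈ jC x ψ U from ⟨n, g₀, rfl, hg₀⟩)
      rw [map_add, map_mul, cι_res x _ h hle, cι_res x _ h hle, hs] at this
      exact ⟨_, this, incl_decomp x W _ _⟩
    | zero => exact ⟨0, zero_mem _, map_zero _⟩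
    | add b c _ _ ih ih' =>
      obtain ⟨z, hz, rfl⟩ := ih
      obtain ⟨z', hz', rfl⟩ := ih'
      exact ⟨z + z', add_mem hz hz', map_add _ _ _⟩
    | smul r b _ ih =>
      obtain ⟨z, hz, rfl⟩ := ih
      exact ⟨cι x _ W r * z, Ideal.mul_mem_left _ _ hz, by rw [map_mul, cι₀_cι]; rfl⟩
  obtain ⟨z, hz, hzf⟩ := hlift (M2.idealIncl I₀ m) ((Set.ext_iff.1 (M2.range_idealIncl I₀ W) _).1 ⟨m, rfl⟩)
  obtain ⟨m', g', rfl, hg'⟩ := hT hz
  rw [incl_decomp] at hzf
  obtain rfl := M2.idealIncl_injective I₀ W.1 hzf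
  have hb : g - g' ∈ I₀.ideal W := by
    rw [← Scheme.IdealSheafData.ker_subschemeι_app, RingHom.mem_ker]
    show I₀.subschemeι.app W.1 (g - g') = 0
    rw [map_sub]
    exact sub_eq_zero.2 (hg.trans hg'.symm)
  convert add_mem hz (hker _ hb) using 1
  rw [map_sub]; ring

/-- The ideal sheaf of the first-order deformation. -/
theorem exists_idealSheaf : ∃ J : (XA x (Art.dual k k)).IdealSheafData,
    ∀ U : X.affineOpens, J.ideal (chart x _ U) = jC x ψ U := by
  choose c hc hcV using exists_chart_eq x (Art.dual k k)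
  let I : ∀ V : (XA x (Art.dual k k)).affineOpens, Ideal Γ(XA x (Art.dual k k), V.1) := fun V =>
    (jC x ψ (c V)).map ((XA x (Art.dual k k)).presheaf.map (homOfLE (hcV V).ge).op).hom
  have key : ∀ (U : X.affineOpens) (V : (XA x (Art.dual k k)).affineOpens) (hle : V.1 ≤ (chart x _ U).1),
      (chart x _ U).1 ≤ V.1 → (jC x ψ U).map ((XA x (Art.dual k k)).presheaf.map (homOfLE hle).op).hom = I V := by
    intro U V hle hge
    obtain rfl : c V = U := by
      refine Subtype.ext ((hc V).symm.trans ?_)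
      rw [le_antisymm hle hge]
      exact preimage_incl x _ U
    rfl
  refine ⟨{ ideal := I, map_ideal_basicOpen := fun V f => ?_ }, fun U => ?_⟩
  · have h : (c ((XA x (Art.dual k k)).affineBasicOpen f)).1 ≤ (c V).1 := by
      rw [← hc, ← hc]
      exact (XAincl x _).preimage_mono ((XA x (Art.dual k k)).basicOpen_le f)
    show ((jC x ψ (c V)).map _).map _ = (jC x ψ (c _)).map _
    rw [← jC_map x ψ h ((pullback.fst x (specOver (Art.dual k k))).preimage_mono h)]
    refine (Ideal.map_map _ _).trans (Eq.trans ?_ (Ideal.map_map _ _).symm)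
    refine congrArg (fun φ : Γ(XA x (Art.dual k k), (chart x _ (c V)).1) ⟶
      Γ(XA x (Art.dual k k), (XA x (Art.dual k k)).basicOpen f) => (jC x ψ (c V)).map φ.hom) ?_
    exact ((XA x (Art.dual k k)).presheaf.map_comp _ _).symm.trans
      ((congrArg (XA x (Art.dual k k)).presheaf.map (Subsingleton.elim _ _)).trans
        ((XA x (Art.dual k k)).presheaf.map_comp _ _))
  · refine (key U (chart x _ U) le_rfl le_rfl).symm.trans ?_
    rw [show (homOfLE (le_refl (chart x (Art.dual k k) U).1)).op = 𝟙 _ from rfl, CategoryTheory.Functor.map_id]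
    exact Ideal.map_id _


/-- The `ε`-coefficient. -/
noncomputable def sndA : (Art.dual k k).carrier →+ k :=
  AddMonoidHom.mk' (fun a => TrivSqZeroExt.snd (a : DualNumber k)) fun a b => TrivSqZeroExt.snd_add (a : DualNumber k) b

theorem dual_eq (a : (Art.dual k k).carrier) : a = algebraMap k _ ((Art.dual k k).res a) +
    algebraMap k _ (sndA a) * eps := by
  have key : ∀ t : DualNumber k, t = algebraMap k (DualNumber k) (TrivSqZeroExt.fst t) +
      algebraMap k (DualNumber k) (TrivSqZeroExt.snd t) * DualNumber.eps := fun t =>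
    TrivSqZeroExt.ext (by simp [TrivSqZeroExt.algebraMap_eq_inl]) (by simp [TrivSqZeroExt.algebraMap_eq_inl])
  exact key a

theorem comb_decomp {ι : Type u} (U : X.affineOpens) (r : ι → Γ(X, U.1)) (c : ι →₀ (Art.dual k k).carrier) :
    comb (cσ x _ U) (cι x _ U ∘ r) c = cι x _ U (comb (ThickAff3.str x U.1) r (c.mapRange (Art.dual k k).res (map_zero _))) +
      cσ x _ U eps * cι x _ U (comb (ThickAff3.str x U.1) r
        (c.mapRange sndA (map_zero _))) := by
  induction c using Finsupp.induction_linear with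
  | zero => simp
  | add c c' hc hc' =>
    rw [map_add, hc, hc', Finsupp.mapRange_add (map_add (Art.dual k k).res),
      Finsupp.mapRange_add (map_add sndA)]
    simp only [map_add, mul_add]
    abel
  | single i a =>
    rw [Finsupp.mapRange_single, Finsupp.mapRange_single, comb_single, comb_single, comb_single, map_mul, map_mul,
      cι_str, cι_str]
    conv_lhs => rw [dual_eq a]
    rw [map_add, map_mul]
    simp only [Function.comp_apply]
    ring

theorem map_jC (U : X.affineOpens) : (jC x ψ U).map (cι₀ x _ U) = I₀.ideal U := by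
  refine le_antisymm (Ideal.map_le_iff_le_comap.2 ?_) fun f hf => ?_
  · rintro _ ⟨m, g, rfl, -⟩
    rw [Ideal.mem_comap, incl_decomp]
    exact (M2.range_idealIncl I₀ U).le ⟨m, rfl⟩
  · obtain ⟨m, rfl⟩ := (Set.ext_iff.1 (M2.range_idealIncl I₀ U) f).2 hf
    obtain ⟨g, hg⟩ := Scheme.Hom.app_surjective I₀.subschemeι U.1 U.2 (ψ.app U.1 m)
    rw [← incl_decomp x U (M2.idealIncl I₀ m) g]
    exact Ideal.mem_map_of_mem _ ⟨m, g, rfl, hg⟩

theorem flat_jC (U : X.affineOpens) :
    ((Ideal.Quotient.mk (jC x ψ U)).comp (cσ x (Art.dual k k) U)).Flat := by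
  obtain ⟨ι, r, hr⟩ := exists_basis (A := k)
    ⟨1, by rw [pow_one, Ideal.zero_eq_bot]; exact IsLocalRing.maximalIdeal_eq_bot⟩
    (ThickAff3.str x U.1) (I₀.ideal U) (by
      letI := ((Ideal.Quotient.mk (I₀.ideal U)).comp (ThickAff3.str x U.1)).toAlgebra
      show Module.Flat k (Γ(X, U.1) ⧸ I₀.ideal U)
      infer_instance)
  refine IsBasisMod.flat (r := cι x _ U ∘ r) ⟨fun s => ?_, fun c hc => ?_⟩
  · obtain ⟨a, b, rfl⟩ := dual_decomp x U s
    obtain ⟨c₀, hc₀⟩ := hr.1 a
    obtain ⟨m, hm⟩ := (Set.ext_iff.1 (M2.range_idealIncl I₀ U) _).2 hc₀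
    obtain ⟨g, hg⟩ := Scheme.Hom.app_surjective I₀.subschemeι U.1 U.2 (ψ.app U.1 m)
    obtain ⟨c₁, hc₁⟩ := hr.1 (b - g)
    refine ⟨c₀.mapRange (algebraMap k _) (map_zero _) + (eps : (Art.dual k k).carrier) • c₁.mapRange (algebraMap k _) (map_zero _), ?_⟩
    rw [map_add, comb_smul, ← (bc_base x (Art.dual k k) U).comb_map r, ← (bc_base x (Art.dual k k) U).comb_map r]
    convert add_mem (show _ ∈ jC x ψ U from ⟨m, g, rfl, hg⟩) (mem_ker_of_mem x ψ U hc₁) using 1
    rw [hm, map_sub, map_sub, map_sub]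
    ring
  · rw [comb_decomp] at hc
    obtain ⟨m, g, he, hg⟩ := hc
    have h0 := congrArg (cι₀ x _ U) he
    rw [incl_decomp, incl_decomp] at h0
    have hc0 := hr.2 _ (h0 ▸ (M2.range_idealIncl I₀ U).le ⟨m, rfl⟩)
    rw [hc0, map_zero] at h0 he
    have hm : m = 0 := M2.idealIncl_injective I₀ U.1 (h0.symm.trans (idealIncl_zero U.1).symm)
    rw [hm, app_zero'] at hg
    rw [hm, idealIncl_zero, map_zero, zero_add, zero_add, ← sub_eq_zero, ← mul_sub, ← map_sub] at he
    have he' := sub_eq_zero.1 (eps_cι_eq_zero x U he)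
    have hc1 := hr.2 _ (by
      rw [he', ← Scheme.IdealSheafData.ker_subschemeι_app]
      exact hg)
    refine Finsupp.ext fun i => ?_
    have e0 := congrArg (fun d : ι →₀ k => d i) hc0
    have e1 := congrArg (fun d : ι →₀ k => d i) hc1
    simp only [Finsupp.mapRange_apply, Finsupp.zero_apply] at e0 e1 ⊢
    rw [dual_eq (c i), e0, e1, map_zero, zero_mul, add_zero]

/-- Every homomorphism `I ⟶ O_Y` comes from a first-order deformation. -/
theorem exists_normal_eq : ∃ J : (ArtFun.localHilb X x I₀).obj (Art.dual k k), normal x I₀ J = ψ := by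
  obtain ⟨J, hJ⟩ := exists_idealSheaf x ψ
  refine ⟨⟨J, (flatOver_iff x _ J).2 fun U => ?_, ?_⟩, normal_ext fun U m => ?_⟩
  · rw [hJ U]; exact flat_jC x ψ U
  · refine Scheme.IdealSheafData.ext (funext fun U => ?_)
    rw [EffCartier.comap_ideal J (XAincl x (Art.dual k k)) (chart x _ U) U (preimage_incl x _ U).ge, hJ U]
    exact map_jC x ψ U
  · obtain ⟨g, hg⟩ := Scheme.Hom.app_surjective I₀.subschemeι U.1 U.2 (ψ.app U.1 m)
    refine (normal_app x _ U m (g := g) ?_).trans hg
    show _ ∈ J.ideal _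
    rw [hJ U]
    exact ⟨m, g, rfl, hg⟩

variable (I₀) in
/-- First-order deformations are homomorphisms `I ⟶ O_Y`. -/
noncomputable def normalEquiv : (ArtFun.localHilb X x I₀).obj (Art.dual k k) ≃ (ClSub.idealMod I₀ ⟶ ClSub.quotMod I₀) :=
  Equiv.ofBijective (normal x I₀) ⟨normal_injective x, fun ψ => exists_normal_eq x ψ⟩

end Groth.Agent.HilbRS3
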