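import Groth.Agent.Lib.HilbRS3.Tangent
import Groth.Agent.Lib.TensorNat17.Basic
import Groth.Agent.Lib.ModM1.Local
import Groth.Prelude.Def_DCoh4
import Groth.Prelude.Def_Omega2

/-!
# Global sections of the normal sheaf as homomorphisms `I ⟶ O_Y`
-/

set_option autoImplicit false
set_option linter.style.haveILetI false
set_option backward.isDefEq.respectTransparency.types false

universe u

open CategoryTheory CategoryTheory.Limits AlgebraicGeometry Opposite

namespace Groth.Agent.HilbRS3

variable {X : Scheme.{u}}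

theorem secHom_app {M : X.Modules} (s : Γ(M, ⊤)) (U : X.Opens) (t : Γ(X, U)) :
    (M1.secHom s).app U (show Γ(Coh.structureModule X, U) from t) = t • M1.mres M (le_top : U ≤ ⊤) s := by
  have h1 : (show Γ(Coh.structureModule X, U) from t) = t • M1.one U := (mul_one t).symm
  conv_lhs => rw [h1, Scheme.Modules.Hom.app_smul, ← M1.mres_one (le_top : U ≤ ⊤), M1.app_mres, M1.secHom_app_one]

theorem secHom_add {M : X.Modules} (s t : Γ(M, ⊤)) : M1.secHom (s + t) = M1.secHom s + M1.secHom t :=
  M1.unit_hom_ext (by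
    show _ = (M1.secHom s).app ⊤ (M1.one ⊤) + (M1.secHom t).app ⊤ (M1.one ⊤)
    rw [M1.secHom_app_one, M1.secHom_app_one, M1.secHom_app_one])

/-- Multiplication by a global function on the structure module. -/
noncomputable abbrev scal (r : Γ(X, ⊤)) : Coh.structureModule X ⟶ Coh.structureModule X :=
  M1.secHom (show Γ(Coh.structureModule X, ⊤) from r)

theorem scal_app (r : Γ(X, ⊤)) (U : X.Opens) (t : Γ(X, U)) :
    (scal r).app U (show Γ(Coh.structureModule X, U) from t) =
      (show Γ(Coh.structureModule X, U) from X.presheaf.map (homOfLE (le_top : U ≤ ⊤)).op r * t) :=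
  (secHom_app _ U t).trans (mul_comm t _)

theorem secHom_smul {M : X.Modules} (r : Γ(X, ⊤)) (s : Γ(M, ⊤)) :
    M1.secHom (r • s) = scal r ≫ M1.secHom s :=
  M1.unit_hom_ext (by
    show _ = (M1.secHom s).app ⊤ ((scal r).app ⊤ (M1.one ⊤))
    rw [M1.secHom_app_one, M1.secHom_app_one]
    refine Eq.trans ?_ (secHom_app s ⊤ r).symm
    rw [M1.mres_id M le_rfl s])

variable (C : X.Modules) [DCoh.HasSheafHom C]

/-- The adjunction isomorphism, on `C ⊗ O`. -/
noncomputable def adjEquiv : (Coh.structureModule X ⟶ (DCoh.sheafHom C).obj (Coh.structureModule X)) ≃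
    (CohB1.tensorMod C (Coh.structureModule X) ⟶ Coh.structureModule X) :=
  ((DCoh.sheafHomAdj C).homEquiv (Coh.structureModule X) (Coh.structureModule X)).symm

theorem tensorBi_map {N N' : X.Modules} (g : N ⟶ N') :
    ((DCoh.tensorBi (X := X)).obj C).map g = M2.tensorMap (𝟙 C) g := by
  unfold M2.tensorMap
  rw [CategoryTheory.Functor.map_id]
  exact congrArg (M2.shf X).map (MonoidalCategory.id_tensorHom (C := M2.PM X.presheaf) (M2.pm C) ((M2.pmF X).map g)).symm

theorem adjEquiv_comp (g : Coh.structureModule X ⟶ Coh.structureModule X)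
    (f : Coh.structureModule X ⟶ (DCoh.sheafHom C).obj (Coh.structureModule X)) :
    adjEquiv C (g ≫ f) = M2.tensorMap (𝟙 C) g ≫ adjEquiv C f := by
  rw [← tensorBi_map]
  exact (DCoh.sheafHomAdj C).homEquiv_naturality_left_symm g f

theorem adjEquiv_add (f g : Coh.structureModule X ⟶ (DCoh.sheafHom C).obj (Coh.structureModule X)) :
    adjEquiv C (f + g) = adjEquiv C f + adjEquiv C g := by
  have h : ∀ f, adjEquiv C f = ((DCoh.tensorBi (X := X)).obj C).map f ≫ (DCoh.sheafHomAdj C).counit.app _ :=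
    fun f => (DCoh.sheafHomAdj C).homEquiv_counit _ _ f
  rw [h, h, h, Functor.map_add]
  exact Preadditive.add_comp _ _ _ _ _ _

/-- `Γ(Hom(C, O)) = Hom(C, O)`. -/
noncomputable def homOfSection : Γ((DCoh.sheafHom C).obj (Coh.structureModule X), ⊤) ≃ (C ⟶ Coh.structureModule X) where
  toFun s := (M2.tensorRUnit C).inv ≫ adjEquiv C (M1.secHom s)
  invFun φ := ((adjEquiv C).symm ((M2.tensorRUnit C).hom ≫ φ)).app ⊤ (M1.one ⊤)
  left_inv s := by
    dsimp only
    rw [Iso.hom_inv_id_assoc, Equiv.symm_apply_apply, M1.secHom_app_one]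
  right_inv φ := by
    dsimp only
    rw [show M1.secHom (((adjEquiv C).symm ((M2.tensorRUnit C).hom ≫ φ)).app ⊤ (M1.one ⊤)) =
      (adjEquiv C).symm ((M2.tensorRUnit C).hom ≫ φ) from M1.unit_hom_ext (M1.secHom_app_one _),
      Equiv.apply_symm_apply, Iso.inv_hom_id_assoc]

theorem homOfSection_add (s t : Γ((DCoh.sheafHom C).obj (Coh.structureModule X), ⊤)) :
    homOfSection C (s + t) = homOfSection C s + homOfSection C t := by
  simp only [homOfSection, Equiv.coe_fn_mk, secHom_add, adjEquiv_add, Preadditive.comp_add]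

theorem whisker_scal (r : Γ(X, ⊤)) (φ : CohB1.tensorMod C (Coh.structureModule X) ⟶ Coh.structureModule X) :
    M2.tensorMap (𝟙 C) (scal r) ≫ φ = φ ≫ scal r := by
  refine M2.tensorMod_hom_ext fun U s t => ?_
  show φ.app U ((M2.tensorMap (𝟙 C) (scal r)).app U (M2.tsec _ _ s t)) =
    (scal r).app U (φ.app U (M2.tsec _ _ s t))
  rw [M2.tensorMap_tsec]
  refine Eq.trans ?_ (scal_app r U _).symm
  refine Eq.trans ?_ (Scheme.Modules.Hom.app_smul φ (X.presheaf.map (homOfLE (le_top : U ≤ ⊤)).op r) _)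
  rw [← M2.tsec_smul_right]
  refine congrArg (φ.app U) (congrArg (M2.tsec _ _ _) ?_)
  exact scal_app r U t

theorem homOfSection_smul (r : Γ(X, ⊤)) (s : Γ((DCoh.sheafHom C).obj (Coh.structureModule X), ⊤)) :
    homOfSection C (r • s) = homOfSection C s ≫ scal r := by
  show (M2.tensorRUnit C).inv ≫ adjEquiv C (M1.secHom (r • s)) = _
  rw [secHom_smul, adjEquiv_comp]
  refine Eq.trans (congrArg ((M2.tensorRUnit C).inv ≫ ·) ?_) (Category.assoc _ _ _).symm
  exact whisker_scal C r _

end Groth.Agent.HilbRS3
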