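import Groth.Agent.Lib.HilbRS3.H0Hom
import Groth.Agent.Lib.HilbRS3.Surj

/-!
# The tangent space of the local Hilbert functor is `H⁰` of the normal sheaf
-/

set_option autoImplicit false
set_option linter.style.haveILetI false
set_option backward.isDefEq.respectTransparency.types false

universe u

open CategoryTheory CategoryTheory.Limits AlgebraicGeometry Opposite

namespace Groth.Agent.HilbRS3

variable {k : Type u} [Field k] {X : Scheme.{u}} (x : X ⟶ Spec (CommRingCat.of k)) (I₀ : X.IdealSheafData)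

theorem toGlobal_eq {Z : Scheme.{u}} (z : Z ⟶ Spec (CommRingCat.of k)) (c : k) :
    Coh.toGlobal z c = ThickAff3.str z ⊤ c := by
  show ((Scheme.ΓSpecIso (CommRingCat.of k)).inv ≫ z.appTop) c = _
  rw [ThickAff3.str, Scheme.Hom.appLE, Scheme.Hom.appTop]
  simp

section Generic

universe v₁ v₂ w₁ w₂

variable {𝒞 : Type w₁} [Category.{v₁} 𝒞] {𝒟 : Type w₂} [Category.{v₂} 𝒟] {F : 𝒞 ⥤ 𝒟} {G : 𝒟 ⥤ 𝒞}

/-- An adjunction followed by an isomorphism of the source. -/
noncomputable def homE (adj : F ⊣ G) {A A' : 𝒞} (e : A ≅ A') (B : 𝒟) : (F.obj A ⟶ B) ≃ (A' ⟶ G.obj B) :=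
  (adj.homEquiv A B).trans (e.homCongr (Iso.refl _))

theorem homE_apply (adj : F ⊣ G) {A A' : 𝒞} (e : A ≅ A') {B : 𝒟} (φ : F.obj A ⟶ B) :
    homE adj e B φ = e.inv ≫ adj.unit.app A ≫ G.map φ := by
  simp [homE, Adjunction.homEquiv_unit]

theorem homE_comp (adj : F ⊣ G) {A A' : 𝒞} (e : A ≅ A') {B B' : 𝒟} (φ : F.obj A ⟶ B) (g : B ⟶ B') :
    homE adj e B' (φ ≫ g) = homE adj e B φ ≫ G.map g := by
  simp [homE_apply]

theorem homE_add [Preadditive 𝒞] [Preadditive 𝒟] (adj : F ⊣ G) (hG : G.Additive) {A A' : 𝒞} (e : A ≅ A') {B : 𝒟}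
    (φ φ' : F.obj A ⟶ B) : homE adj e B (φ + φ') = homE adj e B φ + homE adj e B φ' := by
  simp [homE_apply, G.map_add]

end Generic

/-- The adjunction `Hom(ι^* I, O_Y) = Hom(I, ι_* O_Y)`. -/
noncomputable def adjHom : (Omega.conormal I₀.subschemeι ⟶ Coh.structureModule I₀.subscheme) ≃
    (ClSub.idealMod I₀ ⟶ ClSub.quotMod I₀) :=
  homE (Scheme.Modules.pullbackPushforwardAdjunction I₀.subschemeι)
    (eqToIso (congrArg ClSub.idealMod (Scheme.IdealSheafData.ker_subschemeι I₀))) (Coh.structureModule I₀.subscheme)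

theorem adjHom_comp (φ : Omega.conormal I₀.subschemeι ⟶ Coh.structureModule I₀.subscheme)
    (g : Coh.structureModule I₀.subscheme ⟶ Coh.structureModule I₀.subscheme) :
    adjHom I₀ (φ ≫ g) = adjHom I₀ φ ≫ (Scheme.Modules.pushforward I₀.subschemeι).map g :=
  homE_comp _ _ φ g

theorem adjHom_add (φ φ' : Omega.conormal I₀.subschemeι ⟶ Coh.structureModule I₀.subscheme) :
    adjHom I₀ (φ + φ') = adjHom I₀ φ + adjHom I₀ φ' :=
  homE_add _ (Scheme.Modules.pullbackPushforwardAdjunction I₀.subschemeι).right_adjoint_additive _ φ φ'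

variable [I₀.subscheme.Over (Spec (CommRingCat.of k))] [DCoh.HasSheafHom (Omega.conormal I₀.subschemeι)]

/-- `H⁰(N) = Hom(I, O_Y)`. -/
noncomputable def h0Hom : Coh.HH I₀.subscheme
    ((DCoh.sheafHom (Omega.conormal I₀.subschemeι)).obj (Coh.structureModule I₀.subscheme)) 0 ≃
      (ClSub.idealMod I₀ ⟶ ClSub.quotMod I₀) :=
  (CurveCoh17.hh0 _).toEquiv.trans ((homOfSection (Omega.conormal I₀.subschemeι)).trans (adjHom I₀))

theorem h0Hom_apply (z : Coh.HH I₀.subscheme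
    ((DCoh.sheafHom (Omega.conormal I₀.subschemeι)).obj (Coh.structureModule I₀.subscheme)) 0) :
    h0Hom I₀ z = adjHom I₀ (homOfSection (Omega.conormal I₀.subschemeι) (CurveCoh17.hh0 _ z)) := rfl

theorem h0Hom_add (z w : Coh.HH I₀.subscheme
    ((DCoh.sheafHom (Omega.conormal I₀.subschemeι)).obj (Coh.structureModule I₀.subscheme)) 0) :
    h0Hom I₀ (z + w) = h0Hom I₀ z + h0Hom I₀ w := by
  rw [h0Hom_apply, h0Hom_apply, h0Hom_apply, map_add, homOfSection_add, adjHom_add]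

variable (hY : I₀.subscheme ↘ Spec (CommRingCat.of k) = I₀.subschemeι ≫ x)
include hY

theorem h0Hom_smul (c : k) (z : Coh.HH I₀.subscheme
    ((DCoh.sheafHom (Omega.conormal I₀.subschemeι)).obj (Coh.structureModule I₀.subscheme)) 0)
    (U : X.Opens) (m : Γ(ClSub.idealMod I₀, U)) :
    (h0Hom I₀ (c • z)).app U m = ThickAff3.str x U c • (h0Hom I₀ z).app U m := by
  let Y := I₀.subscheme
  let r : Γ(Y, ⊤) := ThickAff3.str (I₀.subschemeι ≫ x) ⊤ c
  have e1 : h0Hom I₀ (c • z) = h0Hom I₀ z ≫ (Scheme.Modules.pushforward I₀.subschemeι).map (scal r) := by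
    rw [h0Hom_apply, h0Hom_apply, show CurveCoh17.hh0 _ (c • z) = r • CurveCoh17.hh0 _ z by
      refine (CurveCoh17.hh0_smul _ z).trans ?_
      congr 1
      exact (toGlobal_eq _ c).trans (by rw [hY])]
    rw [homOfSection_smul, adjHom_comp]
  rw [e1]
  show (scal r).app (I₀.subschemeι ⁻¹ᵁ U) ((h0Hom I₀ z).app U m) = _
  refine (scal_app r _ ((h0Hom I₀ z).app U m)).trans ?_
  refine congrArg (fun t : Γ(Y, I₀.subschemeι ⁻¹ᵁ U) =>
    t * (show Γ(Y, I₀.subschemeι ⁻¹ᵁ U) from (h0Hom I₀ z).app U m)) ?_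
  exact (ThickAff3.res_str (I₀.subschemeι ≫ x) le_top c).trans (app_str x U c).symm

end Groth.Agent.HilbRS3
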