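import Groth.Agent.Lib.HilbRS3.Scheme
import Groth.Agent.Lib.TensorMod.IdealMod
import Groth.Agent.Lib.KoszShH13.Glue
import Groth.Agent.Lib.RefHull26.Dual
import Groth.Agent.Lib.CohFound.ProperFinite
import Groth.Agent.Lib.CurveCoh17.Skyscraper
import Groth.Agent.Lib.CurveCoh17.Twist
import Groth.Agent.Lib.ModM1.Pull

/-!
# The tangent space of the local Hilbert functor
-/

set_option autoImplicit false
set_option linter.style.haveILetI false
set_option backward.isDefEq.respectTransparency.types false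

universe u

open CategoryTheory CategoryTheory.Limits AlgebraicGeometry IsLocalRing TopologicalSpace Opposite

namespace Groth.Agent.HilbRS3

open ArtFun ArtFun.Art

variable {k : Type u} [Field k] {X : Scheme.{u}} (x : X ⟶ Art.specPt k)

theorem appLE_app_apply {P Q R : Scheme.{u}} (f : P ⟶ Q) (g : Q ⟶ R) {h : P ⟶ R} (w : f ≫ g = h) (U : R.Opens)
    (V : P.Opens) (e : V ≤ f ⁻¹ᵁ g ⁻¹ᵁ U) (e' : V ≤ h ⁻¹ᵁ U) (r : Γ(R, U)) :
    f.appLE (g ⁻¹ᵁ U) V e (g.app U r) = h.appLE U V e' r := by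
  subst w
  rw [Scheme.Hom.comp_appLE]
  rfl

/-- The inclusion of functions on `X` into functions on a chart. -/
noncomputable def cι (A : Art k k) (U : X.affineOpens) : Γ(X, U.1) →+* Γ(XA x A, (chart x A U).1) :=
  ((pullback.fst x (specOver A)).app U.1).hom

theorem bc_base (A : Art k k) (U : X.affineOpens) :
    BC (algebraMap k A) (ThickAff3.str x U.1) (cσ x A U) (cι x A U) := by
  refine bc_of_isPushout ?_
  have hpo := FlatH4.isPushout_sections (UY := (chart x A U).1) (IsPullback.of_hasPullback x (specOver A))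
    (US := ⊤) (UT := ⊤) le_top (UX := U.1) le_top (by simp [chart]) (isAffineOpen_top _) (isAffineOpen_top _) U.2
  refine hpo.of_iso (Scheme.ΓSpecIso (CommRingCat.of k)) (Iso.refl _) (Scheme.ΓSpecIso (CommRingCat.of A)) (Iso.refl _)
    ?_ ?_ ?_ ?_
  · show x.appLE ⊤ _ _ ≫ 𝟙 _ = (Scheme.ΓSpecIso (CommRingCat.of k)).hom ≫
      ((Scheme.ΓSpecIso (CommRingCat.of k)).inv ≫ x.appLE ⊤ _ le_top)
    rw [Category.comp_id, Iso.hom_inv_id_assoc]
  · have e : A.ofBase.toAlgHom.toRingHom = algebraMap k A := RingHom.ext fun c => A.ofBase.toAlgHom.commutes c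
    show (Spec.map (CommRingCat.ofHom A.ofBase.toAlgHom.toRingHom)).appLE ⊤ ⊤ _ ≫ _ = _
    rw [e]
    refine Eq.trans ?_ (Scheme.ΓSpecIso_naturality (CommRingCat.ofHom (algebraMap k A)))
    congr 1
  · show _ ≫ 𝟙 _ = 𝟙 _ ≫ _
    rw [Category.comp_id, Category.id_comp]
    exact (Scheme.Hom.app_eq_appLE _).symm
  · show (XApr x A).appLE ⊤ _ _ ≫ 𝟙 _ = (Scheme.ΓSpecIso (CommRingCat.of A)).hom ≫
      ((Scheme.ΓSpecIso (CommRingCat.of A)).inv ≫ (XApr x A).appLE ⊤ _ le_top)
    rw [Category.comp_id, Iso.hom_inv_id_assoc]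

theorem preimage_incl (A : Art k k) (U : X.affineOpens) : XAincl x A ⁻¹ᵁ (chart x A U).1 = U.1 := by
  show (XAincl x A ≫ pullback.fst x (specOver A)) ⁻¹ᵁ U.1 = U.1
  rw [XAincl_fst]; rfl

/-- Restriction of functions on a chart to the closed fibre. -/
noncomputable def cι₀ (A : Art k k) (U : X.affineOpens) : Γ(XA x A, (chart x A U).1) →+* Γ(X, U.1) :=
  ((XAincl x A).appLE (chart x A U).1 U.1 (preimage_incl x A U).ge).hom

theorem cι₀_cι (A : Art k k) (U : X.affineOpens) (r : Γ(X, U.1)) : cι₀ x A U (cι x A U r) = r := by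
  refine (appLE_app_apply (XAincl x A) (pullback.fst x (specOver A)) (XAincl_fst x A) U.1 U.1
    (preimage_incl x A U).ge le_rfl r).trans ?_
  simp [Scheme.Hom.appLE]
  exact congrArg (fun φ : Γ(X, U.1) ⟶ Γ(X, U.1) => φ.hom r) (X.presheaf.map_id _)

theorem cι₀_cσ (A : Art k k) (U : X.affineOpens) (a : A) :
    cι₀ x A U (cσ x A U a) = ThickAff3.str x U.1 (A.res a) := by
  have h1 : (XApr x A).appLE ⊤ (chart x A U).1 le_top ≫ (XAincl x A).appLE (chart x A U).1 U.1 (preimage_incl x A U).ge =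
      (specRes A).appLE ⊤ ⊤ le_top ≫ x.appLE ⊤ U.1 le_top := by
    rw [Scheme.Hom.appLE_comp_appLE, Scheme.Hom.appLE_comp_appLE]
    simp only [XAincl_snd]
  have h2 : (specRes A).appLE ⊤ ⊤ le_top = (Scheme.ΓSpecIso (CommRingCat.of A)).hom ≫
      CommRingCat.ofHom A.res.toRingHom ≫ (Scheme.ΓSpecIso (CommRingCat.of k)).inv := by
    rw [← Scheme.ΓSpecIso_naturality_assoc, Iso.hom_inv_id, Category.comp_id]
    simp [Scheme.Hom.appLE, Scheme.Hom.appTop]
    rfl
  rw [h2] at h1
  have h3 := congrArg (fun φ : Γ(Spec (CommRingCat.of A), ⊤) ⟶ Γ(X, U.1) =>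
    φ.hom ((Scheme.ΓSpecIso (CommRingCat.of A)).inv a)) h1
  refine Eq.trans h3 ?_
  show x.appLE ⊤ U.1 le_top ((Scheme.ΓSpecIso (CommRingCat.of k)).inv
    (A.res ((Scheme.ΓSpecIso (CommRingCat.of A)).hom ((Scheme.ΓSpecIso (CommRingCat.of A)).inv a)))) = _
  rw [Iso.inv_hom_id_apply]
  rfl

theorem cι_str (A : Art k k) (U : X.affineOpens) (c : k) :
    cι x A U (ThickAff3.str x U.1 c) = cσ x A U (algebraMap k A c) :=
  RingHom.congr_fun (bc_base x A U).1 c

theorem cπ_cι {A B : Art k k} (g : A ⟶ B) (U : X.affineOpens) (r : Γ(X, U.1)) :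
    cπ x g U (cι x A U r) = cι x B U r := by
  refine (appLE_app_apply (XAmap x g) (pullback.fst x (specOver A)) (XAmap_fst x g) U.1 (chart x B U).1
    (preimage_chart x g U).ge le_rfl r).trans ?_
  exact congrArg (fun φ : Γ(X, U.1) ⟶ Γ(XA x B, (chart x B U).1) => φ.hom r) (Scheme.Hom.app_eq_appLE _).symm

theorem cπ_cσ {A B : Art k k} (g : A ⟶ B) (U : X.affineOpens) (a : A) :
    cπ x g U (cσ x A U a) = cσ x B U (g.toAlgHom a) :=
  RingHom.congr_fun (bc x g U).1 a

variable {I₀ : X.IdealSheafData}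

theorem comap_incl {A : Art k k} (J : (ArtFun.localHilb X x I₀).obj A) (U : X.affineOpens) :
    (J.1.ideal (chart x A U)).map (cι₀ x A U) = I₀.ideal U :=
  ((EffCartier.comap_ideal J.1 (XAincl x A) (chart x A U) U (preimage_incl x A U).ge).symm.trans
    (congrArg (fun I : X.IdealSheafData => I.ideal U) J.2.2) :)

theorem exists_lift {A : Art k k} (J : (ArtFun.localHilb X x I₀).obj A) (U : X.affineOpens) {f : Γ(X, U.1)}
    (hf : f ∈ I₀.ideal U) : ∃ y ∈ J.1.ideal (chart x A U), cι₀ x A U y = f := by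
  rw [← comap_incl x J U, Ideal.mem_map_iff_of_surjective _ (fun r => ⟨_, cι₀_cι x A U r⟩)] at hf
  exact hf

theorem mem_of_mem {A : Art k k} (J : (ArtFun.localHilb X x I₀).obj A) (U : X.affineOpens) {y}
    (hy : y ∈ J.1.ideal (chart x A U)) : cι₀ x A U y ∈ I₀.ideal U := by
  rw [← comap_incl x J U]; exact Ideal.mem_map_of_mem _ hy

theorem eps_mem {A : Art k k} (J : (ArtFun.localHilb X x I₀).obj A) (U : X.affineOpens) (e : A)
    (hann : ∀ r, e * r = 0 → r ∈ maximalIdeal A) {g : Γ(X, U.1)}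
    (h : cσ x A U e * cι x A U g ∈ J.1.ideal (chart x A U)) : g ∈ I₀.ideal U := by
  letI := ((Ideal.Quotient.mk (J.1.ideal (chart x A U))).comp (cσ x A U)).toAlgebra
  haveI : Module.Flat A (Γ(XA x A, (chart x A U).1) ⧸ J.1.ideal (chart x A U)) := (flatOver_iff x A J.1).1 J.2.1 U
  have h1 := ThickAff3.mem_colon_smul_top_of_flat (C := A) ⊥ (maximalIdeal A) e
    (fun r hr => hann r (Ideal.mem_bot.1 hr)) (a := Ideal.Quotient.mk (J.1.ideal (chart x A U)) (cι x A U g)) (by
      rw [Submodule.bot_smul, Submodule.mem_bot, Algebra.smul_def]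
      exact (map_mul (Ideal.Quotient.mk (J.1.ideal (chart x A U))) _ _).symm.trans (Ideal.Quotient.eq_zero_iff_mem.2 h))
  rw [Ideal.smul_top_eq_map, Submodule.restrictScalars_mem] at h1
  have h2 : Ideal.Quotient.mk (J.1.ideal (chart x A U)) (cι x A U g) ∈
      ((maximalIdeal A).map (cσ x A U)).map (Ideal.Quotient.mk _) := by
    rw [Ideal.map_map]; exact h1
  rw [← Ideal.mem_comap, Ideal.comap_map_of_surjective _ Ideal.Quotient.mk_surjective, ← RingHom.ker_eq_comap_bot,
    Ideal.mk_ker] at h2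
  obtain ⟨u, hu, v, hv, huv⟩ := Submodule.mem_sup.1 h2
  have h3 : cι₀ x A U u = 0 := by
    refine RingHom.mem_ker.1 ((Ideal.map_le_iff_le_comap.2 fun a ha => ?_ : (maximalIdeal A).map (cσ x A U) ≤ RingHom.ker (cι₀ x A U)) hu)
    rw [Ideal.mem_comap, RingHom.mem_ker, cι₀_cσ, (A.mem_maximalIdeal_iff _).1 ha, map_zero]
  rw [← cι₀_cι x A U g, ← huv, map_add, h3, zero_add]
  exact mem_of_mem x J U hv

theorem decompose {A : Art k k} (U : X.affineOpens) {n : ℕ} (e : Fin n → A)
    (he : ∀ a : A, ∃ c : Fin n → k, a = algebraMap k A (A.res a) + ∑ i, algebraMap k A (c i) * e i)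
    (y : Γ(XA x A, (chart x A U).1)) :
    ∃ (f : Γ(X, U.1)) (g : Fin n → Γ(X, U.1)), y = cι x A U f + ∑ i, cσ x A U (e i) * cι x A U (g i) := by
  induction (bc_base x A U).2.1 y using AddSubgroup.closure_induction with
  | mem y hy =>
    obtain ⟨a, r, rfl⟩ := hy
    obtain ⟨c, hc⟩ := he a
    refine ⟨ThickAff3.str x U.1 (A.res a) * r, fun i => ThickAff3.str x U.1 (c i) * r, ?_⟩
    conv_lhs => rw [hc]
    simp only [map_mul, map_add, map_sum, cι_str, add_mul, Finset.sum_mul]
    congr 1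
    exact Finset.sum_congr rfl fun i _ => by ring
  | zero => exact ⟨0, 0, by simp⟩
  | add y z _ _ hy hz =>
    obtain ⟨f, g, rfl⟩ := hy
    obtain ⟨f', g', rfl⟩ := hz
    refine ⟨f + f', g + g', ?_⟩
    simp only [Pi.add_apply, map_add, mul_add, Finset.sum_add_distrib]
    abel
  | neg y _ hy =>
    obtain ⟨f, g, rfl⟩ := hy
    refine ⟨-f, -g, ?_⟩
    simp only [Pi.neg_apply, map_neg, mul_neg, Finset.sum_neg_distrib, neg_add]

/-- `ε` in the dual numbers. -/
noncomputable abbrev eps : (Art.dual k k).carrier := (DualNumber.eps : DualNumber k)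

theorem eps_mul_eps : (eps : (Art.dual k k).carrier) * eps = 0 := DualNumber.eps_mul_eps

theorem ann_eps (r : (Art.dual k k).carrier) (hr : eps * r = 0) : r ∈ maximalIdeal (Art.dual k k).carrier := by
  rw [(Art.dual k k).mem_maximalIdeal_iff]
  have key : ∀ t : DualNumber k, DualNumber.eps * t = 0 → TrivSqZeroExt.fst t = 0 := fun t ht => by
    simpa [DualNumber.snd_mul] using congrArg TrivSqZeroExt.snd ht
  exact key r hr

theorem dual_decomp (U : X.affineOpens) (y : Γ(XA x (Art.dual k k), (chart x (Art.dual k k) U).1)) :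
    ∃ f g, y = cι x _ U f + cσ x _ U eps * cι x _ U g := by
  have he : ∀ a : (Art.dual k k).carrier, ∃ c : Fin 1 → k, a = algebraMap k _ ((Art.dual k k).res a) +
      ∑ i, algebraMap k _ (c i) * eps := by
    intro a
    have key : ∀ t : DualNumber k, t = algebraMap k (DualNumber k) (TrivSqZeroExt.fst t) +
        algebraMap k (DualNumber k) (TrivSqZeroExt.snd t) * DualNumber.eps := fun t =>
      TrivSqZeroExt.ext (by simp [TrivSqZeroExt.algebraMap_eq_inl]) (by simp [TrivSqZeroExt.algebraMap_eq_inl])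
    exact ⟨fun _ => TrivSqZeroExt.snd (a : DualNumber k), by rw [Fin.sum_univ_one]; exact key a⟩
  obtain ⟨f, g, h⟩ := decompose x U (fun _ : Fin 1 => eps) he y
  exact ⟨f, g 0, by rw [h, Fin.sum_univ_one]⟩

theorem incl_decomp (U : X.affineOpens) (f g : Γ(X, U.1)) :
    cι₀ x (Art.dual k k) U (cι x _ U f + cσ x _ U eps * cι x _ U g) = f := by
  rw [map_add, map_mul, cι₀_cσ, cι₀_cι, show (Art.dual k k).res eps = 0 from DualNumber.fst_eps, map_zero,
    zero_mul, add_zero]

/-- `f + ε g ∈ J`. -/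
def Rel (J : (ArtFun.localHilb X x I₀).obj (Art.dual k k)) (U : X.affineOpens) (f g : Γ(X, U.1)) : Prop :=
  cι x _ U f + cσ x _ U eps * cι x _ U g ∈ J.1.ideal (chart x _ U)

theorem exists_rel (J : (ArtFun.localHilb X x I₀).obj (Art.dual k k)) (U : X.affineOpens) {f : Γ(X, U.1)}
    (hf : f ∈ I₀.ideal U) : ∃ g, Rel x J U f g := by
  obtain ⟨y, hy, hyf⟩ := exists_lift x J U hf
  obtain ⟨f', g, rfl⟩ := dual_decomp x U y
  rw [incl_decomp] at hyf
  exact ⟨g, hyf ▸ hy⟩

theorem rel_unique (J : (ArtFun.localHilb X x I₀).obj (Art.dual k k)) (U : X.affineOpens) {f g g' : Γ(X, U.1)}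
    (h : Rel x J U f g) (h' : Rel x J U f g') : I₀.subschemeι.app U.1 g = I₀.subschemeι.app U.1 g' := by
  rw [← sub_eq_zero, ← map_sub, ← RingHom.mem_ker, Scheme.IdealSheafData.ker_subschemeι_app]
  refine eps_mem x J U eps ann_eps ?_
  convert sub_mem h h' using 1
  rw [map_sub]; ring

/-- The first-order deformation as a homomorphism of modules. -/
theorem exists_normal (J : (ArtFun.localHilb X x I₀).obj (Art.dual k k)) :
    ∃ ψ : ClSub.idealMod I₀ ⟶ ClSub.quotMod I₀, ∀ (U : X.affineOpens) (m : Γ(ClSub.idealMod I₀, U.1)) (g : Γ(X, U.1)),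
      Rel x J U (M2.idealIncl I₀ m) g → ψ.app U.1 m = I₀.subschemeι.app U.1 g := by
  have hmem : ∀ (U : X.affineOpens) (m : Γ(ClSub.idealMod I₀, U.1)), M2.idealIncl I₀ m ∈ I₀.ideal U :=
    fun U m => (Set.ext_iff.1 (M2.range_idealIncl I₀ U) _).1 ⟨m, rfl⟩
  choose g hg using fun (U : X.affineOpens) (m : Γ(ClSub.idealMod I₀, U.1)) => exists_rel x J U (hmem U m)
  let l : ∀ U : X.affineOpens, True → (Γ(ClSub.idealMod I₀, U.1) →+ Γ(ClSub.quotMod I₀, U.1)) := fun U _ =>
    AddMonoidHom.mk' (fun m => (I₀.subschemeι.app U.1 (g U m) : Γ(ClSub.quotMod I₀, U.1))) fun m m' => by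
      refine Eq.trans ?_ (map_add (I₀.subschemeι.app U.1).hom (g U m) (g U m'))
      refine rel_unique x J U (hg U (m + m')) ?_
      show _ ∈ _
      convert add_mem (hg U m) (hg U m') using 1
      rw [M2.idealIncl_add, map_add, map_add]; ring
  obtain ⟨ψ, hψ⟩ := KoszShH13.exists_glue KoszShH13.isAffBasis_top l (fun U _ r m => by
      show I₀.subschemeι.app U.1 (g U (r • m)) = I₀.subschemeι.app U.1 r * I₀.subschemeι.app U.1 (g U m)
      rw [← map_mul]
      refine rel_unique x J U (hg U (r • m)) ?_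
      show _ ∈ _
      convert Ideal.mul_mem_left _ (cι x _ U r) (hg U m) using 1
      rw [M2.idealIncl_smul, map_mul, map_mul]; ring)
    (fun U _ W _ h m => by
      show I₀.subscheme.presheaf.map (homOfLE (I₀.subschemeι.preimage_mono h)).op (I₀.subschemeι.app U.1 (g U m)) =
        I₀.subschemeι.app W.1 (g W (M1.mres (ClSub.idealMod I₀) h m))
      have hn : I₀.subscheme.presheaf.map (homOfLE (I₀.subschemeι.preimage_mono h)).op (I₀.subschemeι.app U.1 (g U m)) =
          I₀.subschemeι.app W.1 (X.presheaf.map (homOfLE h).op (g U m)) := by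
        rw [← ConcreteCategory.comp_apply, ← ConcreteCategory.comp_apply, Scheme.Hom.naturality]
        rfl
      rw [hn]
      refine rel_unique x J W ?_ (hg W _)
      have hle : (chart x (Art.dual k k) W).1 ≤ (chart x (Art.dual k k) U).1 :=
        (pullback.fst x (specOver (Art.dual k k))).preimage_mono h
      have hι : ∀ t, (XA x (Art.dual k k)).presheaf.map (homOfLE hle).op (cι x _ U t) =
          cι x _ W (X.presheaf.map (homOfLE h).op t) := fun t => by
        show _ = (pullback.fst x (specOver (Art.dual k k))).app W.1 _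
        rw [← ConcreteCategory.comp_apply, Scheme.Hom.naturality]
        rfl
      have := Ideal.mem_map_of_mem ((XA x (Art.dual k k)).presheaf.map (homOfLE hle).op).hom (hg U m)
      erw [J.1.map_ideal (U := chart x _ W) (V := chart x _ U) hle] at this
      rw [map_add, map_mul, hι, hι,
        show (XA x (Art.dual k k)).presheaf.map (homOfLE hle).op (cσ x _ U eps) = cσ x _ W eps from
          ThickAff3.res_str _ hle eps] at this
      show _ ∈ _
      rw [show M2.idealIncl I₀ (M1.mres (ClSub.idealMod I₀) h m) = X.presheaf.map (homOfLE h).op (M2.idealIncl I₀ m)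
        from M2.idealIncl_res I₀ h m]
      exact this)
  refine ⟨ψ, fun U m g' h => ?_⟩
  rw [hψ U trivial m]
  exact rel_unique x J U (hg U m) h

variable (I₀) in
/-- The chosen homomorphism. -/
noncomputable def normal (J : (ArtFun.localHilb X x I₀).obj (Art.dual k k)) :
    ClSub.idealMod I₀ ⟶ ClSub.quotMod I₀ :=
  (exists_normal x J).choose

theorem normal_app (J : (ArtFun.localHilb X x I₀).obj (Art.dual k k)) (U : X.affineOpens)
    (m : Γ(ClSub.idealMod I₀, U.1)) {g : Γ(X, U.1)} (h : Rel x J U (M2.idealIncl I₀ m) g) :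
    (normal x I₀ J).app U.1 m = I₀.subschemeι.app U.1 g :=
  (exists_normal x J).choose_spec U m g h

theorem normal_injective : Function.Injective (normal x I₀) := by
  have key : ∀ J J' : (ArtFun.localHilb X x I₀).obj (Art.dual k k), normal x I₀ J = normal x I₀ J' →
      ∀ U, J.1.ideal (chart x _ U) ≤ J'.1.ideal (chart x _ U) := by
    intro J J' e U y hy
    obtain ⟨f, g, rfl⟩ := dual_decomp x U y
    have hf := mem_of_mem x J U hy
    rw [incl_decomp] at hf
    obtain ⟨m, rfl⟩ := (Set.ext_iff.1 (M2.range_idealIncl I₀ U) f).2 hf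
    obtain ⟨g', hg'⟩ := exists_rel x J' U hf
    have h1 := normal_app x J U m hy
    rw [e, normal_app x J' U m hg'] at h1
    replace h1 : (I₀.subschemeι.app U.1 g' : Γ(I₀.subscheme, I₀.subschemeι ⁻¹ᵁ U.1)) = I₀.subschemeι.app U.1 g := h1
    rw [eq_comm, ← sub_eq_zero, ← map_sub, ← RingHom.mem_ker,
      Scheme.IdealSheafData.ker_subschemeι_app] at h1
    obtain ⟨z, hz, hzg⟩ := exists_lift x J' U h1
    obtain ⟨a, b, rfl⟩ := dual_decomp x U z
    rw [incl_decomp] at hzg
    subst hzg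
    convert add_mem hg' (Ideal.mul_mem_left _ (cσ x _ U eps) hz) using 1
    rw [map_sub]
    have hee : cσ x (Art.dual k k) U eps * cσ x _ U eps = 0 := by
      rw [← map_mul, eps_mul_eps, map_zero]
    linear_combination (-(cι x _ U b)) * hee
  intro J J' e
  exact Subtype.ext (Scheme.IdealSheafData.ext_of_iSup_eq_top (chart x _) (iSup_chart x _) fun U =>
    le_antisymm (key J J' e U) (key J' J e.symm U))

theorem normal_ext {ψ ψ' : ClSub.idealMod I₀ ⟶ ClSub.quotMod I₀}
    (h : ∀ (U : X.affineOpens) m, ψ.app U.1 m = ψ'.app U.1 m) : ψ = ψ' :=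
  KoszShH13.hom_ext_basis KoszShH13.isAffBasis_top fun U _ m => h U m

theorem map_rel (J : (ArtFun.localHilb X x I₀).obj (Art.dual k k)) (U : X.affineOpens) {f g : Γ(X, U.1)}
    (h : Rel x J U f g) (c : k) :
    Rel x ((ArtFun.localHilb X x I₀).map (Art.scale c) J) U f (ThickAff3.str x U.1 c * g) := by
  show _ ∈ (J.1.comap (XAmap x (Art.scale c))).ideal (chart x _ U)
  rw [comap_chart]
  convert Ideal.mem_map_of_mem (cπ x (Art.scale c) U) h using 1
  simp only [map_add, map_mul, cπ_cι, cπ_cσ, cι_str]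
  rw [← mul_assoc, ← map_mul]
  congr 3
  have key : ((Art.scale c).toAlgHom eps : DualNumber k) = (DualNumber.eps : DualNumber k) * algebraMap k (DualNumber k) c :=
    TrivSqZeroExt.ext
      (show (DualNumber.eps : DualNumber k).fst = ((DualNumber.eps : DualNumber k) * algebraMap k (DualNumber k) c).fst by
        simp [TrivSqZeroExt.algebraMap_eq_inl])
      (show c * (DualNumber.eps : DualNumber k).snd = ((DualNumber.eps : DualNumber k) * algebraMap k (DualNumber k) c).snd by
        simp [TrivSqZeroExt.algebraMap_eq_inl])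
  exact key.symm

theorem app_str (U : X.Opens) (c : k) :
    I₀.subschemeι.app U (ThickAff3.str x U c) = ThickAff3.str (I₀.subschemeι ≫ x) (I₀.subschemeι ⁻¹ᵁ U) c := by
  show (x.appLE ⊤ U le_top ≫ I₀.subschemeι.app U) _ = (I₀.subschemeι ≫ x).appLE ⊤ _ le_top _
  rw [Scheme.Hom.app_eq_appLE, Scheme.Hom.appLE_comp_appLE]

variable [ArtFun.TangentStr (ArtFun.localHilb X x I₀)]

theorem normal_add (J J' : TangentSpace (ArtFun.localHilb X x I₀)) :
    normal x I₀ (J + J').val = normal x I₀ J.val + normal x I₀ J'.val := by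
  obtain ⟨z, hz⟩ := (rs X x I₀ _ _ _ _ (Art.isFibreProd_dual2 (Λ := k) (k := k))
    (fun c => ⟨algebraMap k _ c, (Art.dual k k).res.commutes c⟩)).2 ⟨(J.val, J'.val), (h0 X x I₀).2.elim _ _⟩
  have e1 : (ArtFun.localHilb X x I₀).map Art.pr₁ z = J.val := congrArg Prod.fst (congrArg Subtype.val hz)
  have e2 : (ArtFun.localHilb X x I₀).map Art.pr₂ z = J'.val := congrArg Prod.snd (congrArg Subtype.val hz)
  have hsum : (J + J').val = (ArtFun.localHilb X x I₀).map Art.plus z := by
    have := ArtFun.TangentStr.add_eq (F := ArtFun.localHilb X x I₀) z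
    rw [e1, e2] at this
    exact this
  refine normal_ext fun U m => ?_
  have hf : M2.idealIncl I₀ m ∈ I₀.ideal U := (Set.ext_iff.1 (M2.range_idealIncl I₀ U) _).1 ⟨m, rfl⟩
  obtain ⟨y, hy, hyf⟩ := exists_lift x z U hf
  let D := (Art.dual2 k k)
  let e : Fin 2 → D.carrier := ![(TrivSqZeroExt.inr ((1 : k), (0 : k)) : TrivSqZeroExt k (k × k)),
    (TrivSqZeroExt.inr ((0 : k), (1 : k)) : TrivSqZeroExt k (k × k))]
  obtain ⟨f, g, rfl⟩ := decompose x U e (fun a => by
    have key : ∀ t : TrivSqZeroExt k (k × k), t = algebraMap k _ (TrivSqZeroExt.fst t) +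
        (algebraMap k _ (TrivSqZeroExt.snd t).1 * TrivSqZeroExt.inr ((1 : k), (0 : k)) +
          algebraMap k _ (TrivSqZeroExt.snd t).2 * TrivSqZeroExt.inr ((0 : k), (1 : k))) := fun t =>
      TrivSqZeroExt.ext (by simp [TrivSqZeroExt.algebraMap_eq_inl]) (by simp [TrivSqZeroExt.algebraMap_eq_inl])
    exact ⟨![(TrivSqZeroExt.snd (a : TrivSqZeroExt k (k × k))).1, (TrivSqZeroExt.snd (a : TrivSqZeroExt k (k × k))).2],
      by rw [Fin.sum_univ_two]; exact key a⟩) y
  rw [Fin.sum_univ_two] at hy hyf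
  have hf0 : f = M2.idealIncl I₀ m := by
    rw [← hyf, map_add, map_add, map_mul, map_mul, cι₀_cσ, cι₀_cσ, cι₀_cι,
      show D.res (e 0) = 0 from (TrivSqZeroExt.fst_inr k ((1 : k), (0 : k)) :), show D.res (e 1) = 0 from (TrivSqZeroExt.fst_inr k ((0 : k), (1 : k)) :),
      map_zero, zero_mul, zero_mul, add_zero, add_zero]
  have himg : ∀ (p : D ⟶ Art.dual k k) (a b : (Art.dual k k).carrier), p.toAlgHom (e 0) = a → p.toAlgHom (e 1) = b →
      cι x _ U f + (cσ x _ U a * cι x _ U (g 0) + cσ x _ U b * cι x _ U (g 1)) ∈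
        ((ArtFun.localHilb X x I₀).map p z).1.ideal (chart x _ U) := by
    intro p a b ha hb
    show _ ∈ (z.1.comap (XAmap x p)).ideal (chart x _ U)
    rw [comap_chart]
    convert Ideal.mem_map_of_mem (cπ x p U) hy using 1
    simp only [map_add, map_mul, cπ_cι, cπ_cσ, ha, hb]
  have r1 : Rel x J.val U f (g 0) := by
    have := himg Art.pr₁ eps 0 (TrivSqZeroExt.ext rfl rfl) (TrivSqZeroExt.ext rfl rfl)
    rw [map_zero, zero_mul, add_zero, e1] at this
    exact this
  have r2 : Rel x J'.val U f (g 1) := by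
    have := himg Art.pr₂ 0 eps (TrivSqZeroExt.ext rfl rfl) (TrivSqZeroExt.ext rfl rfl)
    rw [map_zero, zero_mul, zero_add, e2] at this
    exact this
  have r3 : Rel x (J + J').val U f (g 0 + g 1) := by
    have := himg Art.plus eps eps
      (TrivSqZeroExt.ext rfl (add_zero (1 : k)))
      (TrivSqZeroExt.ext rfl (zero_add (1 : k)))
    rw [← hsum, ← mul_add, ← map_add] at this
    exact this
  rw [hf0] at r1 r2 r3
  rw [normal_app x _ U m r3, map_add, ← normal_app x _ U m r1, ← normal_app x _ U m r2]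
  rfl

theorem normal_smul (c : k) (J : TangentSpace (ArtFun.localHilb X x I₀)) (U : X.affineOpens)
    (m : Γ(ClSub.idealMod I₀, U.1)) :
    (normal x I₀ (c • J).val).app U.1 m =
      ThickAff3.str x U.1 c • (normal x I₀ J.val).app U.1 m := by
  obtain ⟨g, hg⟩ := exists_rel x J.val U ((Set.ext_iff.1 (M2.range_idealIncl I₀ U) _).1 ⟨m, rfl⟩)
  have h2 := map_rel x J.val U hg c
  have e : (c • J).val = (ArtFun.localHilb X x I₀).map (Art.scale c) J.val :=
    ArtFun.TangentStr.smul_eq (F := ArtFun.localHilb X x I₀) c J.val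
  rw [← e] at h2
  rw [normal_app x _ U m h2, normal_app x _ U m hg, map_mul]
  rfl

/-- The tangent space of the local Hilbert functor of a proper subscheme is finite-dimensional. -/
theorem hfin [LocallyOfFiniteType x] [QuasiCompact x] [IsProper (I₀.subschemeι ≫ x)] :
    ArtFun.Hfin (ArtFun.localHilb X x I₀) := by
  haveI : IsLocallyNoetherian X := LocallyOfFiniteType.isLocallyNoetherian x
  haveI : CompactSpace X := HasAffineProperty.iff_of_isAffine.mp (inferInstance : QuasiCompact x)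
  haveI : AlgebraicGeometry.IsNoetherian X := {}
  let Y := I₀.subscheme
  let y : Y ⟶ Spec (CommRingCat.of k) := I₀.subschemeι ≫ x
  letI : Y.Over (Spec (CommRingCat.of k)) := ⟨y⟩
  haveI : IsProper (Y ↘ Spec (CommRingCat.of k)) := (inferInstance : IsProper (I₀.subschemeι ≫ x))
  haveI : IsLocallyNoetherian Y := LocallyOfFiniteType.isLocallyNoetherian y
  let M : Y.Modules := (Scheme.Modules.pullback I₀.subschemeι).obj (ClSub.idealMod I₀)
  have hM : Coh.IsCoh M := M1.isCoh_pullback _ (CurveCoh17.isCoh_idealMod (X := X) I₀)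
  let adj := Scheme.Modules.pullbackPushforwardAdjunction I₀.subschemeι
  haveI : (Scheme.Modules.pullback I₀.subschemeι).Additive := adj.left_adjoint_additive
  obtain ⟨mu, hmu⟩ : ∃ mu : k → (Coh.structureModule Y ⟶ Coh.structureModule Y),
      ∀ c (V : Y.affineOpens) s, (mu c).app V.1 s = ThickAff3.str y V.1 c • s := by
    choose mu hmu using fun c : k => KoszShH13.exists_glue (M := Coh.structureModule Y) (N := Coh.structureModule Y)
      KoszShH13.isAffBasis_top (fun V _ => AddMonoidHom.mk' (fun s => ThickAff3.str y V.1 c • s)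
        fun s t => smul_add _ s t)
      (fun V _ r m => smul_comm (ThickAff3.str y V.1 c) r m)
      (fun V _ W _ h m => by
        show M1.mres _ h (ThickAff3.str y V.1 c • m) = ThickAff3.str y W.1 c • M1.mres _ h m
        rw [M1.mres_smul]
        congr 1
        exact ThickAff3.res_str y h c)
    exact ⟨mu, fun c V s => hmu c V trivial s⟩
  let Ψ : TangentSpace (ArtFun.localHilb X x I₀) → (M ⟶ Coh.structureModule Y) := fun J =>
    (adj.homEquiv _ _).symm (normal x I₀ J.val)
  have hΨinj : Function.Injective Ψ := fun J J' h => normal_injective x ((adj.homEquiv _ _).symm.injective h)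
  have hΨadd : ∀ J J', Ψ (J + J') = Ψ J + Ψ J' := fun J J' => by
    simp only [Ψ, normal_add x J J', Adjunction.homEquiv_counit, Functor.map_add, Preadditive.add_comp]
  have hΨsmul : ∀ c J, Ψ (c • J) = Ψ J ≫ mu c := fun c J => by
    show (adj.homEquiv _ _).symm _ = (adj.homEquiv _ _).symm _ ≫ mu c
    rw [← adj.homEquiv_naturality_right_symm]
    refine congrArg _ (normal_ext fun U m => ?_)
    rw [normal_smul x c J U m]
    refine Eq.trans ?_ (hmu c ⟨_, U.2.preimage I₀.subschemeι⟩ ((normal x I₀ J.val).app U.1 m)).symm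
    exact congrArg (fun t : Γ(I₀.subscheme, I₀.subschemeι ⁻¹ᵁ U.1) =>
      t * (show Γ(I₀.subscheme, I₀.subschemeι ⁻¹ᵁ U.1) from (normal x I₀ J.val).app U.1 m)) (app_str x U.1 c)
  let W := Γ(RefHull.dual M, (⊤ : Y.Opens))
  letI : Module k W := Module.compHom _ (ThickAff3.str y ⊤)
  haveI hW : Module.Finite k W := by
    haveI := CohFound.finite_HH_of_isProper (RefHull.dual M) (RH26.isCoh_dual hM) 0 (A := k)
    let e : Coh.HH Y (RefHull.dual M) 0 →ₗ[k] W :=
      { toFun := CurveCoh17.hh0 (RefHull.dual M)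
        map_add' := map_add _
        map_smul' := fun c z => by
          refine (CurveCoh17.hh0_smul _ z).trans ?_
          show _ • CurveCoh17.hh0 (RefHull.dual M) z = ThickAff3.str y ⊤ c • CurveCoh17.hh0 (RefHull.dual M) z
          congr 1
          show ((Scheme.ΓSpecIso (CommRingCat.of k)).inv ≫ y.appTop) c = _
          rw [ThickAff3.str, Scheme.Hom.appLE, Scheme.Hom.appTop]
          simp }
    exact Module.Finite.of_surjective e (CurveCoh17.hh0 (RefHull.dual M)).surjective
  have hofinj : ∀ φ φ' : M ⟶ Coh.structureModule Y,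
      RefHull.ofHom φ ⊤ = RefHull.ofHom φ' ⊤ → φ = φ' := fun φ φ' h => by
    refine KoszShH13.hom_ext_basis KoszShH13.isAffBasis_top fun V _ m => M1.section_ext _ _ fun p hp => ?_
    rw [← RefHull.stalkMapₗ_germ φ p hp m, ← RefHull.stalkMapₗ_germ φ' p hp m]
    exact congrArg (fun t => t (M.presheaf.germ V.1 p hp m)) (congrFun (congrArg Subtype.val h) ⟨p, trivial⟩)
  let L : TangentSpace (ArtFun.localHilb X x I₀) →ₗ[k] W :=
    { toFun := fun J => RefHull.ofHom (Ψ J) ⊤
      map_add' := fun J J' => by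
        refine Subtype.ext (funext fun p => LinearMap.ext fun v => ?_)
        obtain ⟨V, hp, m, rfl⟩ := TopCat.Presheaf.exists_germ_eq M.presheaf v
        show RefHull.stalkMapₗ (Ψ (J + J')) p.1 _ = RefHull.stalkMapₗ (Ψ J) p.1 _ + RefHull.stalkMapₗ (Ψ J') p.1 _
        rw [RefHull.stalkMapₗ_germ, RefHull.stalkMapₗ_germ, RefHull.stalkMapₗ_germ, hΨadd]
        exact map_add _ _ _
      map_smul' := fun c J => by
        refine Subtype.ext (funext fun p => LinearMap.ext fun v => ?_)
        obtain ⟨V₀, hp₀, m₀, rfl⟩ := TopCat.Presheaf.exists_germ_eq M.presheaf v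
        obtain ⟨V, hV, hp, hle⟩ := exists_isAffineOpen_mem_and_subset hp₀
        rw [← M1.germ_mres M hle hp m₀]
        show RefHull.stalkMapₗ (Ψ (c • J)) p.1 _ =
          Y.presheaf.germ ⊤ p.1 trivial (ThickAff3.str y ⊤ c) • RefHull.stalkMapₗ (Ψ J) p.1 _
        rw [RefHull.stalkMapₗ_germ, RefHull.stalkMapₗ_germ, hΨsmul]
        show (Coh.structureModule Y).presheaf.germ V p.1 hp ((mu c).app V ((Ψ J).app V _)) = _
        rw [hmu c ⟨V, hV⟩, Mero.germ_smul, ← ThickAff3.res_str y (le_top : V ≤ ⊤) c]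
        congr 1
        exact Y.presheaf.germ_res_apply _ p.1 hp _ }
  haveI : IsNoetherian k W := inferInstance
  exact Module.Finite.of_injective L fun J J' h => hΨinj (hofinj _ _ h)

end Groth.Agent.HilbRS3
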