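import Groth.Agent.Lib.HilbRS3.Alg
import Groth.Agent.Lib.ThickAff3.Gamma
import Groth.Agent.Lib.EffCartier.Comap
import Groth.Prelude.Def_ArtFun2
import Groth.Prelude.Def_ArtFun6

/-!
# The local Hilbert functor satisfies the Rim–Schlessinger condition
-/

set_option autoImplicit false
set_option linter.style.haveILetI false

universe u

open CategoryTheory CategoryTheory.Limits AlgebraicGeometry IsLocalRing

namespace Groth.Agent.HilbRS3

open ArtFun ArtFun.Art

theorem bc_of_isPushout {B A S S' : Type u} [CommRing B] [CommRing A] [CommRing S] [CommRing S']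
    {g : B →+* A} {σ : B →+* S} {σ' : A →+* S'} {π : S →+* S'}
    (h : IsPushout (CommRingCat.ofHom σ) (CommRingCat.ofHom g) (CommRingCat.ofHom π) (CommRingCat.ofHom σ')) :
    BC g σ σ' π := by
  letI := g.toAlgebra
  letI := σ.toAlgebra
  let i := (CommRingCat.isPushout_tensorProduct B A S).isoIsPushout _ _ h.flip
  have e1 : i.commRingCatIsoToRingEquiv.toRingHom.comp
      (Algebra.TensorProduct.includeLeftRingHom : A →+* TensorProduct B A S) = σ' :=
    congrArg CommRingCat.Hom.hom ((CommRingCat.isPushout_tensorProduct B A S).inl_isoIsPushout_hom _ _ h.flip)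
  have e2 : i.commRingCatIsoToRingEquiv.toRingHom.comp
      (Algebra.TensorProduct.includeRight.toRingHom : S →+* TensorProduct B A S) = π :=
    congrArg CommRingCat.Hom.hom ((CommRingCat.isPushout_tensorProduct B A S).inr_isoIsPushout_hom _ _ h.flip)
  have := (bc_of_tensor (B := B) (A := A) (S := S)).transport i.commRingCatIsoToRingEquiv
  rwa [e1, e2] at this

variable {k : Type u} [Field k] {X : Scheme.{u}} (x : X ⟶ Art.specPt k)

theorem flat_over_field {Z : Scheme.{u}} (z : Z ⟶ Spec (CommRingCat.of k)) : Flat z := by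
  refine (HasRingHomProperty.iff_of_iSup_eq_top (P := @Flat) (f := z) (fun U : Z.affineOpens => U)
    (iSup_affineOpens_eq_top Z)).2 fun U => ?_
  let φ := (Scheme.ΓSpecIso (CommRingCat.of k)).commRingCatIsoToRingEquiv
  letI : Field Γ(Spec (CommRingCat.of k), ⊤) := (φ.toMulEquiv.isField (Semifield.toIsField k)).toField
  letI := (z.appLE ⊤ U.1 le_top).hom.toAlgebra
  show Module.Flat Γ(Spec (CommRingCat.of k), ⊤) Γ(Z, U.1)
  infer_instance

instance isAffineHom_fst (A : Art k k) : IsAffineHom (pullback.fst x (specOver A)) := by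
  haveI : IsAffineHom (specOver A) := isAffineHom_of_isAffine _
  exact MorphismProperty.pullback_fst _ _ inferInstance

instance isAffineHom_XAmap {A B : Art k k} (g : A ⟶ B) : IsAffineHom (XAmap x g) := by
  haveI : IsAffineHom (specMap g) := isAffineHom_of_isAffine _
  exact MorphismProperty.of_isPullback (isPullback_XAmap x g).flip (inferInstance : IsAffineHom (specMap g))

/-- The chart over an affine open. -/
noncomputable def chart (A : Art k k) (U : X.affineOpens) : (XA x A).affineOpens :=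
  ⟨pullback.fst x (specOver A) ⁻¹ᵁ U.1, U.2.preimage _⟩

theorem iSup_chart (A : Art k k) : ⨆ U : X.affineOpens, (chart x A U).1 = ⊤ := by
  show ⨆ U : X.affineOpens, pullback.fst x (specOver A) ⁻¹ᵁ U.1 = ⊤
  rw [← Scheme.Hom.preimage_iSup, iSup_affineOpens_eq_top]; rfl

theorem preimage_chart {A B : Art k k} (g : A ⟶ B) (U : X.affineOpens) :
    XAmap x g ⁻¹ᵁ (chart x A U).1 = (chart x B U).1 := by
  show (XAmap x g ≫ pullback.fst x (specOver A)) ⁻¹ᵁ U.1 = pullback.fst x (specOver B) ⁻¹ᵁ U.1
  rw [XAmap_fst]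

/-- The structure map of a chart. -/
noncomputable def cσ (A : Art k k) (U : X.affineOpens) : A →+* Γ(XA x A, (chart x A U).1) :=
  ThickAff3.str (XApr x A) (chart x A U).1

/-- The transition map of charts. -/
noncomputable def cπ {A B : Art k k} (g : A ⟶ B) (U : X.affineOpens) :
    Γ(XA x A, (chart x A U).1) →+* Γ(XA x B, (chart x B U).1) :=
  ((XAmap x g).appLE (chart x A U).1 (chart x B U).1 (preimage_chart x g U).ge).hom

theorem bc {A B : Art k k} (g : A ⟶ B) (U : X.affineOpens) :
    BC g.toAlgHom.toRingHom (cσ x A U) (cσ x B U) (cπ x g U) := by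
  refine bc_of_isPushout ?_
  have hpo := FlatH4.isPushout_sections (UY := (chart x B U).1) (isPullback_XAmap x g) (US := ⊤) (UT := ⊤) le_top
    (UX := (chart x A U).1) le_top (by simp [preimage_chart]) (isAffineOpen_top _) (isAffineOpen_top _) (chart x A U).2
  refine hpo.of_iso (Scheme.ΓSpecIso (CommRingCat.of A)) (Iso.refl _) (Scheme.ΓSpecIso (CommRingCat.of B)) (Iso.refl _)
    ?_ ?_ ?_ ?_
  · show (XApr x A).appLE ⊤ _ _ ≫ 𝟙 _ = (Scheme.ΓSpecIso (CommRingCat.of A)).hom ≫
      ((Scheme.ΓSpecIso (CommRingCat.of A)).inv ≫ (XApr x A).appLE ⊤ _ le_top)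
    rw [Category.comp_id, Iso.hom_inv_id_assoc]
  · rw [← Scheme.ΓSpecIso_naturality]
    simp [Scheme.Hom.appLE, Scheme.Hom.appTop, Art.specMap]
  · show _ ≫ 𝟙 _ = 𝟙 _ ≫ _
    rw [Category.comp_id, Category.id_comp]
    rfl
  · show (XApr x B).appLE ⊤ _ _ ≫ 𝟙 _ = (Scheme.ΓSpecIso (CommRingCat.of B)).hom ≫
      ((Scheme.ΓSpecIso (CommRingCat.of B)).inv ≫ (XApr x B).appLE ⊤ _ le_top)
    rw [Category.comp_id, Iso.hom_inv_id_assoc]

theorem flat_cσ (A : Art k k) (U : X.affineOpens) : (cσ x A U).Flat := by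
  haveI : Flat x := flat_over_field x
  haveI : Flat (XApr x A) := MorphismProperty.pullback_snd _ _ inferInstance
  exact (RingHom.Flat.of_bijective (ConcreteCategory.bijective_of_isIso (Scheme.ΓSpecIso (CommRingCat.of A)).inv)).comp
    (HasRingHomProperty.appLE @Flat (XApr x A) ‹_› ⟨⊤, isAffineOpen_top _⟩ (chart x A U) le_top)

theorem flatOver_iff (A : Art k k) (I : (XA x A).IdealSheafData) :
    FlatOver X x A I ↔ ∀ U, ((Ideal.Quotient.mk (I.ideal (chart x A U))).comp (cσ x A U)).Flat := by
  have key : ∀ U, ((I.subschemeι ≫ XApr x A).appLE ⊤ (I.subschemeι ⁻¹ᵁ (chart x A U).1) le_top).hom =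
      (I.subschemeObjIso (chart x A U)).inv.hom.comp (((Ideal.Quotient.mk (I.ideal (chart x A U))).comp (cσ x A U)).comp
        (Scheme.ΓSpecIso (CommRingCat.of A)).hom.hom) := by
    intro U
    have h1 : (I.subschemeι ≫ XApr x A).appLE ⊤ (I.subschemeι ⁻¹ᵁ (chart x A U).1) le_top =
        (XApr x A).appLE ⊤ (chart x A U).1 le_top ≫ I.subschemeι.app (chart x A U).1 := by
      rw [Scheme.Hom.app_eq_appLE, Scheme.Hom.appLE_comp_appLE]
    rw [h1, I.subschemeι_app]
    refine RingHom.ext fun c => ?_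
    show (I.subschemeObjIso (chart x A U)).inv (Ideal.Quotient.mk _ ((XApr x A).appLE ⊤ (chart x A U).1 le_top c)) = _
    refine congrArg (fun t => (I.subschemeObjIso (chart x A U)).inv (Ideal.Quotient.mk _ t)) ?_
    exact congrArg (fun φ : Γ(Spec (CommRingCat.of A), ⊤) ⟶ Γ(XA x A, (chart x A U).1) => φ.hom c)
      (Iso.hom_inv_id_assoc (Scheme.ΓSpecIso (CommRingCat.of A)) ((XApr x A).appLE ⊤ (chart x A U).1 le_top)).symm
  have b1 := ConcreteCategory.bijective_of_isIso (Scheme.ΓSpecIso (CommRingCat.of A)).hom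
  constructor
  · intro h U
    have h' : Flat (I.subschemeι ≫ XApr x A) := h
    have h2 := HasRingHomProperty.appLE @Flat _ h' ⟨⊤, isAffineOpen_top _⟩
      ⟨I.subschemeι ⁻¹ᵁ (chart x A U).1, (chart x A U).2.preimage _⟩ le_top
    change ((I.subschemeι ≫ XApr x A).appLE ⊤ _ le_top).hom.Flat at h2
    rw [key U] at h2
    have h3 := ((RingHom.Flat.of_bijective (ConcreteCategory.bijective_of_isIso (Scheme.ΓSpecIso (CommRingCat.of A)).inv)).comp h2).comp
      (RingHom.Flat.of_bijective (ConcreteCategory.bijective_of_isIso (I.subschemeObjIso (chart x A U)).hom))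
    have e : (I.subschemeObjIso (chart x A U)).hom.hom.comp
        (((I.subschemeObjIso (chart x A U)).inv.hom.comp (((Ideal.Quotient.mk (I.ideal (chart x A U))).comp (cσ x A U)).comp
          (Scheme.ΓSpecIso (CommRingCat.of A)).hom.hom)).comp (Scheme.ΓSpecIso (CommRingCat.of A)).inv.hom) =
        (Ideal.Quotient.mk (I.ideal (chart x A U))).comp (cσ x A U) := by
      refine RingHom.ext fun c => ?_
      simp
    rwa [e] at h3
  · intro h
    refine (HasRingHomProperty.iff_of_iSup_eq_top (P := @Flat) (f := I.subschemeι ≫ XApr x A)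
      (fun U : X.affineOpens => (⟨I.subschemeι ⁻¹ᵁ (chart x A U).1, (chart x A U).2.preimage _⟩ : I.subscheme.affineOpens))
      (by show ⨆ U : X.affineOpens, I.subschemeι ⁻¹ᵁ (chart x A U).1 = ⊤
          rw [← Scheme.Hom.preimage_iSup, iSup_chart]; rfl)).2 fun U => ?_
    change ((I.subschemeι ≫ XApr x A).appLE ⊤ _ le_top).hom.Flat
    rw [key U]
    exact (((RingHom.Flat.of_bijective b1).comp (h U))).comp
      (RingHom.Flat.of_bijective (ConcreteCategory.bijective_of_isIso (I.subschemeObjIso (chart x A U)).inv))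

/-- Flatness may be checked on a cover by charts. -/
theorem flatOver_of_cover (A : Art k k) (I : (XA x A).IdealSheafData) {σ : Type*} (V : σ → X.affineOpens)
    (hV : ⨆ i, (V i).1 = ⊤) (h : ∀ i, ((Ideal.Quotient.mk (I.ideal (chart x A (V i)))).comp (cσ x A (V i))).Flat) :
    FlatOver X x A I := by
  refine (HasRingHomProperty.iff_of_iSup_eq_top (P := @Flat) (f := I.subschemeι ≫ XApr x A)
    (fun i => (⟨I.subschemeι ⁻¹ᵁ (chart x A (V i)).1, (chart x A (V i)).2.preimage _⟩ : I.subscheme.affineOpens))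
    (by
      show ⨆ i, I.subschemeι ⁻¹ᵁ (pullback.fst x (specOver A) ⁻¹ᵁ (V i).1) = ⊤
      rw [← Scheme.Hom.preimage_iSup, ← Scheme.Hom.preimage_iSup, hV]; rfl)).2 fun i => ?_
  let U := V i
  change ((I.subschemeι ≫ XApr x A).appLE ⊤ (I.subschemeι ⁻¹ᵁ (chart x A U).1) le_top).hom.Flat
  have h1 : (I.subschemeι ≫ XApr x A).appLE ⊤ (I.subschemeι ⁻¹ᵁ (chart x A U).1) le_top =
      (XApr x A).appLE ⊤ (chart x A U).1 le_top ≫ I.subschemeι.app (chart x A U).1 := by
    rw [Scheme.Hom.app_eq_appLE, Scheme.Hom.appLE_comp_appLE]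
  have e : ((I.subschemeι ≫ XApr x A).appLE ⊤ (I.subschemeι ⁻¹ᵁ (chart x A U).1) le_top).hom =
      (I.subschemeObjIso (chart x A U)).inv.hom.comp (((Ideal.Quotient.mk (I.ideal (chart x A U))).comp (cσ x A U)).comp
        (Scheme.ΓSpecIso (CommRingCat.of A)).hom.hom) := by
    rw [h1, I.subschemeι_app]
    refine RingHom.ext fun c => ?_
    show (I.subschemeObjIso (chart x A U)).inv (Ideal.Quotient.mk _ ((XApr x A).appLE ⊤ (chart x A U).1 le_top c)) = _
    refine congrArg (fun t => (I.subschemeObjIso (chart x A U)).inv (Ideal.Quotient.mk _ t)) ?_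
    exact congrArg (fun φ : Γ(Spec (CommRingCat.of A), ⊤) ⟶ Γ(XA x A, (chart x A U).1) => φ.hom c)
      (Iso.hom_inv_id_assoc (Scheme.ΓSpecIso (CommRingCat.of A)) ((XApr x A).appLE ⊤ (chart x A U).1 le_top)).symm
  rw [e]
  exact (((RingHom.Flat.of_bijective (ConcreteCategory.bijective_of_isIso (Scheme.ΓSpecIso (CommRingCat.of A)).hom)).comp
    (h i))).comp (RingHom.Flat.of_bijective (ConcreteCategory.bijective_of_isIso (I.subschemeObjIso (chart x A U)).inv))

theorem comap_chart {A B : Art k k} (g : A ⟶ B) (I : (XA x A).IdealSheafData) (U : X.affineOpens) :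
    (I.comap (XAmap x g)).ideal (chart x B U) = (I.ideal (chart x A U)).map (cπ x g U) :=
  EffCartier.comap_ideal I (XAmap x g) (chart x A U) (chart x B U) (preimage_chart x g U).ge

theorem map_chart {A B : Art k k} (g : A ⟶ B) (I : (XA x B).IdealSheafData) (U : X.affineOpens) :
    (I.map (XAmap x g)).ideal (chart x A U) = (I.ideal (chart x B U)).comap (cπ x g U) := by
  rw [Scheme.IdealSheafData.ideal_map_of_isAffineHom]
  have key : ∀ (V : (XA x B).affineOpens) (e : V.1 = XAmap x g ⁻¹ᵁ (chart x A U).1)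
      (H : IsAffineOpen (XAmap x g ⁻¹ᵁ (chart x A U).1)),
      (I.ideal ⟨_, H⟩).comap ((XAmap x g).app (chart x A U).1).hom =
        (I.ideal V).comap ((XAmap x g).appLE (chart x A U).1 V.1 e.le).hom := by
    rintro ⟨V, hV⟩ e H
    change V = _ at e
    subst e
    rw [Scheme.Hom.app_eq_appLE]
  exact key (chart x B U) (preimage_chart x g U).symm _

variable (X) (I₀ : X.IdealSheafData)

theorem h0 : ArtFun.H0 (ArtFun.localHilb X x I₀) := by
  have hb : ofBase (base k k) = 𝟙 (base k k) := Art.hom_ext (AlgHom.ext fun c => rfl)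
  haveI : IsIso (specOver (base k k)) := by
    show IsIso (specMap (ofBase (base k k)))
    rw [hb, specMap_id]; infer_instance
  haveI : IsIso (pullback.fst x (specOver (base k k))) := inferInstance
  have hinv : pullback.fst x (specOver (base k k)) ≫ XAincl x (base k k) = 𝟙 _ := by
    rw [← cancel_mono (pullback.fst x (specOver (base k k))), Category.assoc, XAincl_fst, Category.comp_id,
      Category.id_comp]
  refine ⟨⟨⟨I₀.comap (pullback.fst x (specOver (base k k))), ?_, ?_⟩⟩, ⟨fun a b => Subtype.ext ?_⟩⟩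
  · exact flat_over_field (k := k) _
  · rw [← Scheme.IdealSheafData.comap_comp, XAincl_fst, Scheme.IdealSheafData.comap_id]
  · have h : ∀ c : (ArtFun.localHilb X x I₀).obj (base k k), c.1 = I₀.comap (pullback.fst x (specOver (base k k))) :=
      fun c => by
        refine Eq.trans ?_ (congrArg (Scheme.IdealSheafData.comap · _) c.2.2)
        rw [← Scheme.IdealSheafData.comap_comp, hinv, Scheme.IdealSheafData.comap_id]
    rw [h a, h b]

/-- The Rim–Schlessinger condition for the local Hilbert functor. -/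
theorem rs {B A A' A'' : Art k k} (p' : B ⟶ A') (p'' : B ⟶ A'') (f' : A' ⟶ A) (f'' : A'' ⟶ A)
    (h : IsFibreProd p' p'' f' f'') (hf : Function.Surjective f'') :
    Function.Bijective (ArtFun.cmp (ArtFun.localHilb X x I₀) h) := by
  have hnil : ∀ C : Art k k, IsNilpotent (maximalIdeal C) := fun C => by
    rw [← IsLocalRing.jacobson_eq_maximalIdeal ⊥ bot_ne_top]; exact IsArtinianRing.isNilpotent_jacobson_bot
  have hinj : ∀ b : B, p'.toAlgHom b = 0 → p''.toAlgHom b = 0 → b = 0 := fun b h1 h2 =>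
    h.inj b 0 (h1.trans (map_zero p'.toAlgHom).symm) (h2.trans (map_zero p''.toAlgHom).symm)
  constructor
  · intro a b hab
    have e1 : a.1.comap (XAmap x p') = b.1.comap (XAmap x p') :=
      congrArg Subtype.val (congrArg Prod.fst (congrArg Subtype.val hab))
    have e2 : a.1.comap (XAmap x p'') = b.1.comap (XAmap x p'') :=
      congrArg Subtype.val (congrArg Prod.snd (congrArg Subtype.val hab))
    have key : ∀ (a b : (ArtFun.localHilb X x I₀).obj B), a.1.comap (XAmap x p') = b.1.comap (XAmap x p') →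
        a.1.comap (XAmap x p'') = b.1.comap (XAmap x p'') → ∀ U, a.1.ideal (chart x B U) ≤ b.1.ideal (chart x B U) := by
      intro a b e1 e2 U z hz
      refine mem_of_mem_maps (hnil B) hinj (bc x p' U) (bc x p'' U) (b.1.ideal (chart x B U))
        ((flatOver_iff x B b.1).1 b.2.1 U) z ?_ ?_
      · rw [← comap_chart, ← e1, comap_chart]; exact Ideal.mem_map_of_mem _ hz
      · rw [← comap_chart, ← e2, comap_chart]; exact Ideal.mem_map_of_mem _ hz
    exact Subtype.ext (Scheme.IdealSheafData.ext_of_iSup_eq_top (chart x B) (iSup_chart x B) fun U =>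
      le_antisymm (key a b e1 e2 U) (key b a e1.symm e2.symm U))
  · rintro ⟨⟨a', a''⟩, hab⟩
    have hJ : a'.1.comap (XAmap x f') = a''.1.comap (XAmap x f'') := congrArg Subtype.val hab
    let I : (XA x B).IdealSheafData := a'.1.map (XAmap x p') ⊓ a''.1.map (XAmap x p'')
    have hI : ∀ U, I.ideal (chart x B U) =
        (a'.1.ideal (chart x A' U)).comap (cπ x p' U) ⊓ (a''.1.ideal (chart x A'' U)).comap (cπ x p'' U) := fun U => by
      show (a'.1.map (XAmap x p')).ideal (chart x B U) ⊓ (a''.1.map (XAmap x p'')).ideal (chart x B U) = _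
      rw [map_chart, map_chart]
    have hg := fun U => exists_glue (hnil B) (hnil A') (hnil A'')
      (fun a ha => by
        rw [A''.mem_maximalIdeal_iff]
        rw [A.mem_maximalIdeal_iff] at ha
        rw [← AlgHom.congr_fun f''.res_comp a]
        exact ha)
      (fun a ha => by
        rw [A''.mem_maximalIdeal_iff] at ha
        rw [A.mem_maximalIdeal_iff]
        exact (AlgHom.congr_fun f''.res_comp a).trans ha)
      hinj (fun b' b'' e => h.surj b' b'' e) hf (bc x p' U) (bc x p'' U) (bc x f' U) (bc x f'' U)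
      (by
        show ((XAmap x p').appLE _ _ _ ≫ (XAmap x f').appLE _ _ _).hom = ((XAmap x p'').appLE _ _ _ ≫ (XAmap x f'').appLE _ _ _).hom
        rw [Scheme.Hom.appLE_comp_appLE, Scheme.Hom.appLE_comp_appLE]
        simp only [← XAmap_comp, h.w])
      (flat_cσ x B U) _ ((flatOver_iff x A' a'.1).1 a'.2.1 U) _ ((flatOver_iff x A'' a''.1).1 a''.2.1 U)
      (by rw [← comap_chart, ← comap_chart, hJ])
    have e1 : I.comap (XAmap x p') = a'.1 :=
      Scheme.IdealSheafData.ext_of_iSup_eq_top (chart x A') (iSup_chart x A') fun U => by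
        rw [comap_chart, hI]; exact (hg U).2.1
    have e2 : I.comap (XAmap x p'') = a''.1 :=
      Scheme.IdealSheafData.ext_of_iSup_eq_top (chart x A'') (iSup_chart x A'') fun U => by
        rw [comap_chart, hI]; exact (hg U).2.2
    refine ⟨⟨I, (flatOver_iff x B I).2 fun U => by rw [hI]; exact (hg U).1, ?_⟩, ?_⟩
    · rw [← XAincl_XAmap x p', Scheme.IdealSheafData.comap_comp, e1, a'.2.2]
    · exact ArtFun.FibProd.ext (Subtype.ext e1) (Subtype.ext e2)

end Groth.Agent.HilbRS3
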