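import Groth.Agent.Lib.Hartogs3.Flat

/-!
# Flat quotients over fibre products of Artinian local rings
-/

set_option autoImplicit false
set_option linter.style.haveILetI false

universe u

open IsLocalRing

namespace Groth.Agent.HilbRS3

variable {B A S S' : Type u} [CommRing B] [CommRing A] [CommRing S] [CommRing S']

/-- `S'` is the base change of `S` along `g`. -/
def BC (g : B →+* A) (σ : B →+* S) (σ' : A →+* S') (π : S →+* S') : Prop :=
  π.comp σ = σ'.comp g ∧ (∀ y, y ∈ AddSubgroup.closure {y | ∃ a s, y = σ' a * π s}) ∧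
    ∀ l : S →+ B, (∀ b s, l (σ b * s) = b * l s) →
      ∃ l' : S' →+ A, (∀ a y, l' (σ' a * y) = a * l' y) ∧ ∀ s, l' (π s) = g (l s)

theorem bc_of_tensor [Algebra B A] [Algebra B S] :
    BC (algebraMap B A) (algebraMap B S) (Algebra.TensorProduct.includeLeftRingHom : A →+* TensorProduct B A S)
      (Algebra.TensorProduct.includeRight.toRingHom : S →+* TensorProduct B A S) := by
  refine ⟨RingHom.ext fun b => ?_, fun y => ?_, fun l hl => ?_⟩
  · show (1 : A) ⊗ₜ[B] algebraMap B S b = algebraMap B A b ⊗ₜ[B] (1 : S)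
    rw [Algebra.algebraMap_eq_smul_one, Algebra.algebraMap_eq_smul_one, TensorProduct.smul_tmul]
  · induction y using TensorProduct.induction_on with
    | zero => exact zero_mem _
    | tmul a s => exact AddSubgroup.subset_closure ⟨a, s, by
        show a ⊗ₜ[B] s = (a ⊗ₜ[B] (1 : S)) * ((1 : A) ⊗ₜ[B] s)
        rw [Algebra.TensorProduct.tmul_mul_tmul, mul_one, one_mul]⟩
    | add x y hx hy => exact add_mem hx hy
  · let L : S →ₗ[B] B := { toFun := l, map_add' := l.map_add, map_smul' := fun b s => (by rw [Algebra.smul_def, hl]; rfl) }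
    let L' : TensorProduct B A S →ₗ[B] A := (TensorProduct.rid B A).toLinearMap.comp (L.lTensor A)
    have hL : ∀ (a : A) (s : S), L' (a ⊗ₜ[B] s) = algebraMap B A (l s) * a := fun a s => by
      simp [L', L, Algebra.smul_def]
    refine ⟨L'.toAddMonoidHom, fun a y => ?_, fun s => (hL 1 s).trans (mul_one _)⟩
    show L' ((a ⊗ₜ[B] (1 : S)) * y) = a * L' y
    induction y using TensorProduct.induction_on with
    | zero => rw [mul_zero, map_zero, mul_zero]
    | tmul a' s => rw [Algebra.TensorProduct.tmul_mul_tmul, hL, hL, one_mul]; ring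
    | add x y hx hy => rw [mul_add, map_add, map_add, hx, hy, mul_add]

theorem BC.transport {g : B →+* A} {σ : B →+* S} {σ' : A →+* S'} {π : S →+* S'} (h : BC g σ σ' π)
    {T : Type u} [CommRing T] (e : S' ≃+* T) : BC g σ (e.toRingHom.comp σ') (e.toRingHom.comp π) := by
  obtain ⟨h1, h2, h3⟩ := h
  refine ⟨by rw [RingHom.comp_assoc, h1, RingHom.comp_assoc], fun y => ?_, fun l hl => ?_⟩
  · have := AddSubgroup.mem_map_of_mem e.toRingHom.toAddMonoidHom (h2 (e.symm y))
    rw [AddMonoidHom.map_closure] at this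
    refine AddSubgroup.closure_mono ?_ (by simpa using this)
    rintro _ ⟨_, ⟨a, s, rfl⟩, rfl⟩
    exact ⟨a, s, map_mul e _ _⟩
  · obtain ⟨l', hl1, hl2⟩ := h3 l hl
    refine ⟨l'.comp e.symm.toRingHom.toAddMonoidHom, fun a y => ?_, fun s => ?_⟩
    · show l' (e.symm (e (σ' a) * y)) = a * l' (e.symm y)
      rw [map_mul, e.symm_apply_apply, hl1]
    · show l' (e.symm (e (π s))) = _
      rw [e.symm_apply_apply, hl2]

/-- Linear combinations. -/
noncomputable def comb {ι : Type u} (σ : A →+* S) (r : ι → S) : (ι →₀ A) →+ S :=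
  Finsupp.liftAddHom fun i => (AddMonoidHom.mulRight (r i)).comp σ.toAddMonoidHom

theorem comb_single {ι : Type u} (σ : A →+* S) (r : ι → S) (i : ι) (a : A) :
    comb σ r (Finsupp.single i a) = σ a * r i := by
  simp [comb]

/-- A family inducing a basis of `S ⧸ I`. -/
def IsBasisMod {ι : Type u} (σ : A →+* S) (I : Ideal S) (r : ι → S) : Prop :=
  (∀ s, ∃ c : ι →₀ A, s - comb σ r c ∈ I) ∧ ∀ c : ι →₀ A, comb σ r c ∈ I → c = 0

theorem IsBasisMod.unique {ι : Type u} {σ : A →+* S} {I : Ideal S} {r : ι → S} (h : IsBasisMod σ I r)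
    {s : S} {c c' : ι →₀ A} (hc : s - comb σ r c ∈ I) (hc' : s - comb σ r c' ∈ I) : c = c' := by
  refine sub_eq_zero.1 (h.2 _ ?_)
  rw [map_sub]
  convert sub_mem hc' hc using 1
  ring

theorem comb_smul {ι : Type u} (σ : A →+* S) (r : ι → S) (a : A) (c : ι →₀ A) :
    comb σ r (a • c) = σ a * comb σ r c := by
  induction c using Finsupp.induction_linear with
  | zero => simp
  | add c c' hc hc' => rw [smul_add, map_add, map_add, hc, hc', mul_add]
  | single i b => rw [Finsupp.smul_single, comb_single, comb_single, smul_eq_mul, map_mul, mul_assoc]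

theorem comb_quot {ι : Type u} (σ : A →+* S) (I : Ideal S) (r : ι → S) (c : ι →₀ A) :
    Ideal.Quotient.mk I (comb σ r c) =
      (letI := ((Ideal.Quotient.mk I).comp σ).toAlgebra
       Finsupp.linearCombination A (fun i => Ideal.Quotient.mk I (r i)) c) := by
  letI := ((Ideal.Quotient.mk I).comp σ).toAlgebra
  induction c using Finsupp.induction_linear with
  | zero => simp
  | add c c' hc hc' => rw [map_add, map_add, hc, hc', map_add]
  | single i b =>
    rw [comb_single, Finsupp.linearCombination_single, map_mul, Algebra.smul_def]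
    rfl

theorem exists_basis [IsLocalRing A] (hm : IsNilpotent (maximalIdeal A)) (σ : A →+* S) (I : Ideal S)
    (hflat : ((Ideal.Quotient.mk I).comp σ).Flat) : ∃ (ι : Type u) (r : ι → S), IsBasisMod σ I r := by
  letI := ((Ideal.Quotient.mk I).comp σ).toAlgebra
  haveI : Module.Flat A (S ⧸ I) := hflat
  haveI := Hartogs3.free_of_flat hm (S ⧸ I)
  let b := Module.Free.chooseBasis A (S ⧸ I)
  choose r hr using fun i => Ideal.Quotient.mk_surjective (b i)
  have hfun : (fun i => Ideal.Quotient.mk I (r i)) = b := funext hr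
  refine ⟨_, r, fun s => ⟨b.repr (Ideal.Quotient.mk I s), ?_⟩, fun c hc => ?_⟩
  · rw [← Ideal.Quotient.eq_zero_iff_mem, map_sub, comb_quot, hfun, Module.Basis.linearCombination_repr, sub_self]
  · have := comb_quot σ I r c
    rw [Ideal.Quotient.eq_zero_iff_mem.2 hc, hfun] at this
    exact linearIndependent_iff.1 b.linearIndependent c this.symm

theorem IsBasisMod.flat {ι : Type u} {σ : A →+* S} {I : Ideal S} {r : ι → S} (h : IsBasisMod σ I r) :
    ((Ideal.Quotient.mk I).comp σ).Flat := by
  letI := ((Ideal.Quotient.mk I).comp σ).toAlgebra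
  show Module.Flat A (S ⧸ I)
  haveI : Module.Free A (S ⧸ I) := Module.Free.of_basis (Module.Basis.mk
    (v := fun i => Ideal.Quotient.mk I (r i))
    (linearIndependent_iff.2 fun c hc => h.2 c (Ideal.Quotient.eq_zero_iff_mem.1 (by rw [comb_quot]; exact hc)))
    (fun z _ => by
      obtain ⟨s, rfl⟩ := Ideal.Quotient.mk_surjective z
      obtain ⟨c, hc⟩ := h.1 s
      rw [← Ideal.Quotient.eq_zero_iff_mem, map_sub, sub_eq_zero] at hc
      rw [hc, comb_quot, ← Finsupp.range_linearCombination]
      exact ⟨c, rfl⟩))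
  infer_instance

section

variable {g : B →+* A} {σ : B →+* S} {σ' : A →+* S'} {π : S →+* S'}

theorem BC.comb_map {ι : Type u} (h : BC g σ σ' π) (r : ι → S) (c : ι →₀ B) :
    π (comb σ r c) = comb σ' (π ∘ r) (c.mapRange g (map_zero g)) := by
  induction c using Finsupp.induction_linear with
  | zero => simp
  | add c c' hc hc' => rw [map_add, map_add, hc, hc', Finsupp.mapRange_add (map_add g), map_add]
  | single i b =>
    rw [Finsupp.mapRange_single, comb_single, comb_single, map_mul, ← RingHom.comp_apply, h.1]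
    rfl

theorem BC.push {ι : Type u} (h : BC g σ σ' π) {I : Ideal S} {r : ι → S} (hr : IsBasisMod σ I r) :
    IsBasisMod σ' (I.map π) (π ∘ r) := by
  constructor
  · intro y
    induction h.2.1 y using AddSubgroup.closure_induction with
    | mem y hy =>
      obtain ⟨a, s, rfl⟩ := hy
      obtain ⟨c, hc⟩ := hr.1 s
      refine ⟨a • c.mapRange g (map_zero g), ?_⟩
      rw [comb_smul, ← h.comb_map, ← mul_sub, ← map_sub]
      exact Ideal.mul_mem_left _ _ (Ideal.mem_map_of_mem _ hc)
    | zero => exact ⟨0, by simp⟩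
    | add x y _ _ hx hy =>
      obtain ⟨c, hc⟩ := hx
      obtain ⟨c', hc'⟩ := hy
      exact ⟨c + c', by rw [map_add, add_sub_add_comm]; exact add_mem hc hc'⟩
    | neg x _ hx =>
      obtain ⟨c, hc⟩ := hx
      exact ⟨-c, by rw [map_neg, ← neg_sub', ]; exact neg_mem hc⟩
  · intro c hc
    choose co hco using hr.1
    have hlin : ∀ i, ∃ l : S →+ B, (∀ b s, l (σ b * s) = b * l s) ∧ ∀ s, l s = co s i := fun i => by
      refine ⟨AddMonoidHom.mk' (fun s => co s i) fun s t => ?_, fun b s => ?_, fun s => rfl⟩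
      · rw [← Finsupp.add_apply]
        refine congrArg (fun d : ι →₀ B => d i) (hr.unique (hco (s + t)) ?_)
        rw [map_add, add_sub_add_comm]
        exact add_mem (hco s) (hco t)
      · show co (σ b * s) i = b * co s i
        show _ = (b • co s) i
        refine congrArg (fun d : ι →₀ B => d i) (hr.unique (hco (σ b * s)) ?_)
        rw [comb_smul, ← mul_sub]
        exact Ideal.mul_mem_left _ _ (hco s)
    refine Finsupp.ext fun i => ?_
    obtain ⟨l, hl, hlco⟩ := hlin i
    obtain ⟨l', hl'1, hl'2⟩ := h.2.2 l hl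
    have hI : ∀ t ∈ I.map π, ∀ y, l' (y * t) = 0 := by
      intro t ht
      induction ht using Submodule.span_induction with
      | mem t ht =>
        obtain ⟨t, htI, rfl⟩ := ht
        intro y
        induction h.2.1 y using AddSubgroup.closure_induction with
        | mem y hy =>
          obtain ⟨a, s, rfl⟩ := hy
          have h0 : co (s * t) = 0 := hr.unique (hco _) (by
            rw [map_zero, sub_zero]; exact Ideal.mul_mem_left _ _ htI)
          rw [mul_assoc, ← map_mul, hl'1, hl'2, hlco, h0, Finsupp.zero_apply, map_zero, mul_zero]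
        | zero => rw [zero_mul, map_zero]
        | add x y _ _ hx hy => rw [add_mul, map_add, hx, hy, add_zero]
        | neg x _ hx => rw [neg_mul, map_neg, hx, neg_zero]
      | zero => intro y; rw [mul_zero, map_zero]
      | add t t' _ _ ih ih' => intro y; rw [mul_add, map_add, ih, ih', add_zero]
      | smul z t _ ih => intro y; rw [smul_eq_mul, ← mul_assoc, ih]
    have hval : ∀ d : ι →₀ A, l' (comb σ' (π ∘ r) d) = d i := by
      intro d
      induction d using Finsupp.induction_linear with
      | zero => simp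
      | add d d' hd hd' => rw [map_add, map_add, hd, hd', Finsupp.add_apply]
      | single j a =>
        rw [comb_single, hl'1, Function.comp_apply, hl'2, hlco]
        have : co (r j) = Finsupp.single j 1 := hr.unique (hco _) (by
          rw [comb_single, map_one, one_mul, sub_self]; exact zero_mem _)
        rw [this]
        classical
        by_cases hji : j = i
        · subst hji; simp
        · simp [Finsupp.single_apply, hji]
    rw [Finsupp.zero_apply, ← hval c]
    simpa using hI _ hc 1

theorem BC.surjective (h : BC g σ σ' π) (hg : Function.Surjective g) : Function.Surjective π := by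
  intro y
  induction h.2.1 y using AddSubgroup.closure_induction with
  | mem y hy =>
    obtain ⟨a, s, rfl⟩ := hy
    obtain ⟨b, rfl⟩ := hg a
    exact ⟨σ b * s, by rw [map_mul, ← RingHom.comp_apply, h.1]; rfl⟩
  | zero => exact ⟨0, map_zero _⟩
  | add x y _ _ hx hy =>
    obtain ⟨a, rfl⟩ := hx
    obtain ⟨b, rfl⟩ := hy
    exact ⟨a + b, map_add _ _ _⟩
  | neg x _ hx =>
    obtain ⟨a, rfl⟩ := hx
    exact ⟨-a, map_neg _ _⟩

end

variable {A' A'' A₀ S'' S₀ : Type u} [CommRing A'] [CommRing A''] [CommRing A₀] [CommRing S''] [CommRing S₀]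
  {p' : B →+* A'} {p'' : B →+* A''} {f' : A' →+* A₀} {f'' : A'' →+* A₀}
  {σ : B →+* S} {σ' : A' →+* S'} {σ'' : A'' →+* S''} {σ₀ : A₀ →+* S₀}
  {π' : S →+* S'} {π'' : S →+* S''} {φ' : S' →+* S₀} {φ'' : S'' →+* S₀}

/-- A flat quotient over a fibre product is determined by its two base changes. -/
theorem mem_of_mem_maps [IsLocalRing B] (hm : IsNilpotent (maximalIdeal B))
    (hinj : ∀ b, p' b = 0 → p'' b = 0 → b = 0) (h' : BC p' σ σ' π') (h'' : BC p'' σ σ'' π'')
    (I : Ideal S) (hflat : ((Ideal.Quotient.mk I).comp σ).Flat) (z : S)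
    (hz' : π' z ∈ I.map π') (hz'' : π'' z ∈ I.map π'') : z ∈ I := by
  obtain ⟨ι, r, hr⟩ := exists_basis hm σ I hflat
  obtain ⟨c, hc⟩ := hr.1 z
  have e' := (h'.push hr).2 (c.mapRange p' (map_zero _)) (by
    rw [← h'.comb_map]
    convert sub_mem hz' (Ideal.mem_map_of_mem π' hc) using 1
    rw [map_sub]; ring)
  have e'' := (h''.push hr).2 (c.mapRange p'' (map_zero _)) (by
    rw [← h''.comb_map]
    convert sub_mem hz'' (Ideal.mem_map_of_mem π'' hc) using 1
    rw [map_sub]; ring)
  have : c = 0 := Finsupp.ext fun i => hinj _ (by simpa using DFunLike.congr_fun e' i)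
    (by simpa using DFunLike.congr_fun e'' i)
  simpa [this] using hc

/-- Gluing of coefficient families. -/
theorem glueCoeff {ι : Type u} (hinj : ∀ b, p' b = 0 → p'' b = 0 → b = 0)
    (hex : ∀ a' a'', f' a' = f'' a'' → ∃ b, p' b = a' ∧ p'' b = a'') (c' : ι →₀ A') (c'' : ι →₀ A'')
    (e : c'.mapRange f' (map_zero _) = c''.mapRange f'' (map_zero _)) :
    ∃ c : ι →₀ B, c.mapRange p' (map_zero _) = c' ∧ c.mapRange p'' (map_zero _) = c'' := by
  classical
  choose b hb' hb'' using fun i => hex (c' i) (c'' i) (by simpa using DFunLike.congr_fun e i)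
  refine ⟨Finsupp.onFinset (c'.support ∪ c''.support) b fun i hi => ?_, Finsupp.ext fun i => ?_, Finsupp.ext fun i => ?_⟩
  · by_contra h
    simp only [Finset.mem_union, Finsupp.mem_support_iff, not_or, not_not] at h
    exact hi (hinj _ ((hb' i).trans h.1) ((hb'' i).trans h.2))
  · simpa using hb' i
  · simpa using hb'' i

/-- Flat quotients over the factors with a common base change glue. -/
theorem exists_glue [IsLocalRing B] [IsLocalRing A'] [IsLocalRing A''] [IsLocalRing A₀]
    (hmB : IsNilpotent (maximalIdeal B)) (hmA' : IsNilpotent (maximalIdeal A'))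
    (hmA'' : IsNilpotent (maximalIdeal A''))
    (hloc : ∀ a, f'' a ∈ maximalIdeal A₀ → a ∈ maximalIdeal A'')
    (hloc' : ∀ a ∈ maximalIdeal A'', f'' a ∈ maximalIdeal A₀)
    (hinj : ∀ b, p' b = 0 → p'' b = 0 → b = 0)
    (hex : ∀ a' a'', f' a' = f'' a'' → ∃ b, p' b = a' ∧ p'' b = a'') (hf'' : Function.Surjective f'')
    (h' : BC p' σ σ' π') (h'' : BC p'' σ σ'' π'') (g' : BC f' σ' σ₀ φ') (g'' : BC f'' σ'' σ₀ φ'')
    (hcomm : φ'.comp π' = φ''.comp π'') (hS : σ.Flat)
    (I' : Ideal S') (hI' : ((Ideal.Quotient.mk I').comp σ').Flat)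
    (I'' : Ideal S'') (hI'' : ((Ideal.Quotient.mk I'').comp σ'').Flat)
    (hJ : I'.map φ' = I''.map φ'') :
    ((Ideal.Quotient.mk (I'.comap π' ⊓ I''.comap π'')).comp σ).Flat ∧
      (I'.comap π' ⊓ I''.comap π'').map π' = I' ∧ (I'.comap π' ⊓ I''.comap π'').map π'' = I'' := by
  have hφ'' := g''.surjective hf''
  have hc : ∀ s, φ' (π' s) = φ'' (π'' s) := fun s => RingHom.congr_fun hcomm s
  have hbot : ((Ideal.Quotient.mk (⊥ : Ideal S)).comp σ).Flat := by
    exact hS.comp (RingHom.Flat.of_bijective ⟨(RingHom.injective_iff_ker_eq_bot (Ideal.Quotient.mk (⊥ : Ideal S))).2 Ideal.mk_ker,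
      Ideal.Quotient.mk_surjective⟩)
  obtain ⟨κ, e, he⟩ := exists_basis hmB σ ⊥ hbot
  have he' := h'.push he
  have he'' := h''.push he
  have he0 := g'.push he'
  simp only [Ideal.map_bot] at he' he'' he0
  -- sections over both factors with equal images
  have hfib : ∀ y' y'', φ' y' = φ'' y'' → ∃ s, π' s = y' ∧ π'' s = y'' := by
    intro y' y'' hy
    obtain ⟨c', hc'⟩ := he'.1 y'
    obtain ⟨c'', hc''⟩ := he''.1 y''
    rw [Ideal.mem_bot, sub_eq_zero] at hc' hc''
    obtain ⟨c, hc1, hc2⟩ := glueCoeff hinj hex c' c'' (he0.unique (s := φ' y')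
      (by rw [Ideal.mem_bot, sub_eq_zero, hc', g'.comb_map])
      (by
        rw [Ideal.mem_bot, sub_eq_zero, hy, hc'', g''.comb_map]
        congr 1
        refine congrArg _ ?_
        funext i
        exact (hc (e i)).symm))
    exact ⟨comb σ e c, by rw [h'.comb_map, hc1, ← hc'], by rw [h''.comb_map, hc2, ← hc'']⟩
  obtain ⟨ι, r', hr'⟩ := exists_basis hmA' σ' I' hI'
  have hr0 := g'.push hr'
  choose y'' hy'' using fun i => hφ'' (φ' (r' i))
  choose z hz' hz'' using fun i => hfib (r' i) (y'' i) (hy'' i).symm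
  let r'' : ι → S'' := fun i => π'' (z i)
  have hr''0 : φ'' ∘ r'' = φ' ∘ r' := funext fun i => by
    show φ'' (π'' (z i)) = φ' (r' i)
    rw [← hc, hz']
  -- the lifted family is a basis over the second factor
  have hr'' : IsBasisMod σ'' I'' r'' := by
    letI := ((Ideal.Quotient.mk I'').comp σ'').toAlgebra
    haveI : Module.Flat A'' (S'' ⧸ I'') := hI''
    haveI := Hartogs3.free_of_flat hmA'' (S'' ⧸ I'')
    let T := Finsupp.linearCombination A'' (fun i => Ideal.Quotient.mk I'' (r'' i))
    have hT : ∀ c, T c = Ideal.Quotient.mk I'' (comb σ'' r'' c) := fun c => (comb_quot σ'' I'' r'' c).symm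
    have hmem : ∀ (I : Ideal A'') (y : S''), Ideal.Quotient.mk I'' y ∈ I • (⊤ : Submodule A'' (S'' ⧸ I'')) →
        φ'' y ∈ I''.map φ'' ⊔ (I.map f'').map σ₀ := by
      intro I y hy
      rw [Ideal.smul_top_eq_map, Submodule.restrictScalars_mem] at hy
      have hy' : Ideal.Quotient.mk I'' y ∈ (I.map σ'').map (Ideal.Quotient.mk I'') := by
        rw [Ideal.map_map]; exact hy
      rw [← Ideal.mem_comap, Ideal.comap_map_of_surjective _ Ideal.Quotient.mk_surjective, ← RingHom.ker_eq_comap_bot,
        Ideal.mk_ker, sup_comm] at hy'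
      have := Ideal.mem_map_of_mem φ'' hy'
      rwa [Ideal.map_sup, Ideal.map_map, g''.1, ← Ideal.map_map] at this
    obtain ⟨ψ, hψ⟩ := Hartogs3.exists_leftInverse hmA'' T fun c hc => by
      have h1 := hmem _ (comb σ'' r'' c) (by rw [← hT]; exact hc)
      rw [g''.comb_map, hr''0, ← hJ] at h1
      have hle : (maximalIdeal A'').map f'' ≤ maximalIdeal A₀ := Ideal.map_le_iff_le_comap.2 hloc'
      have h1' : comb σ₀ (φ' ∘ r') (c.mapRange f'' (map_zero _)) ∈ I'.map φ' ⊔ (maximalIdeal A₀).map σ₀ :=
        (sup_le_sup (le_refl (I'.map φ')) (Ideal.map_mono (f := σ₀) hle) :) h1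
      obtain ⟨u, hu, v, hv, huv⟩ := Submodule.mem_sup.1 h1'
      have hv' : ∃ d : ι →₀ A₀, v - comb σ₀ (φ' ∘ r') d ∈ I'.map φ' ∧ ∀ i, d i ∈ maximalIdeal A₀ := by
        clear huv
        induction hv using Submodule.span_induction with
        | mem v hv =>
          obtain ⟨a, ha, rfl⟩ := hv
          obtain ⟨d, hd⟩ := hr0.1 1
          refine ⟨a • d, ?_, fun i => Ideal.mul_mem_right _ _ ha⟩
          rw [comb_smul]
          simpa [mul_sub] using Ideal.mul_mem_left (I'.map φ') (σ₀ a) hd
        | zero => exact ⟨0, by simp, fun i => by simp⟩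
        | add v w _ _ h1 h2 =>
          obtain ⟨d, hd, hd'⟩ := h1
          obtain ⟨d', he1, he2⟩ := h2
          exact ⟨d + d', by rw [map_add, add_sub_add_comm]; exact add_mem hd he1, fun i => add_mem (hd' i) (he2 i)⟩
        | smul y v _ h1 =>
          obtain ⟨d, hd, hd'⟩ := h1
          have key : ∀ d : ι →₀ A₀, (∀ i, d i ∈ maximalIdeal A₀) →
              ∃ d' : ι →₀ A₀, y * comb σ₀ (φ' ∘ r') d - comb σ₀ (φ' ∘ r') d' ∈ I'.map φ' ∧
                ∀ i, d' i ∈ maximalIdeal A₀ := by
            intro d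
            induction d using Finsupp.induction with
            | zero => exact fun _ => ⟨0, by simp, fun i => by simp⟩
            | single_add j a d hjd _ ih =>
              intro hd
              classical
              have hj : a ∈ maximalIdeal A₀ := by
                simpa [Finsupp.notMem_support_iff.1 hjd] using hd j
              obtain ⟨d', he1, he2⟩ := ih fun i => by
                by_cases hij : i = j
                · subst hij; rw [Finsupp.notMem_support_iff.1 hjd]; exact zero_mem _
                · simpa [Finsupp.single_apply, Ne.symm hij] using hd i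
              obtain ⟨dd, hdd⟩ := hr0.1 (y * φ' (r' j))
              refine ⟨a • dd + d', ?_, fun i => add_mem (Ideal.mul_mem_right _ _ hj) (he2 i)⟩
              rw [map_add, map_add, comb_single, comb_smul]
              convert add_mem (Ideal.mul_mem_left _ (σ₀ a) hdd) he1 using 1
              simp only [Function.comp_apply]; ring
          obtain ⟨d', he1, he2⟩ := key d hd'
          refine ⟨d', ?_, he2⟩
          rw [smul_eq_mul]
          convert add_mem (Ideal.mul_mem_left _ y hd) he1 using 1
          ring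
      obtain ⟨d, hd, hd'⟩ := hv'
      have heq : c.mapRange f'' (map_zero _) = d := hr0.unique
        (s := comb σ₀ (φ' ∘ r') (c.mapRange f'' (map_zero _))) (by rw [sub_self]; exact zero_mem _) (by
          rw [← huv]
          convert add_mem hu hd using 1
          ring)
      rw [← c.sum_single]
      refine sum_mem fun i _ => ?_
      rw [show Finsupp.single i (c i) = c i • Finsupp.single i (1 : A'') by simp]
      exact Submodule.smul_mem_smul (hloc _ (by simpa [← heq] using hd' i)) Submodule.mem_top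
    constructor
    · obtain ⟨n, hn⟩ := id hmA''
      have step : ∀ q : S'' ⧸ I'', q ∈ LinearMap.range T ⊔ maximalIdeal A'' • (⊤ : Submodule A'' (S'' ⧸ I'')) := by
        intro q
        obtain ⟨y, rfl⟩ := Ideal.Quotient.mk_surjective q
        obtain ⟨a, ha⟩ := hr0.1 (φ'' y)
        obtain ⟨at', rfl⟩ := Finsupp.mapRange_surjective f'' (map_zero _) hf'' a
        rw [← hr''0, ← g''.comb_map, ← map_sub, hJ,
          Ideal.mem_map_iff_of_surjective φ'' hφ''] at ha
        obtain ⟨w, hw, hww⟩ := ha
        let k := y - comb σ'' r'' at' - w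
        have hk : φ'' k = 0 := by rw [map_sub, hww, sub_self]
        obtain ⟨μ, q', hq'⟩ := exists_basis hmA'' σ'' I'' hI''
        obtain ⟨c, hc1⟩ := hq'.1 k
        have hc0 : c.mapRange f'' (map_zero _) = 0 := (g''.push hq').2 _ (by
          rw [← g''.comb_map]
          have := Ideal.mem_map_of_mem φ'' hc1
          rw [map_sub, hk, zero_sub] at this
          simpa using this)
        have hkm : Ideal.Quotient.mk I'' k ∈ maximalIdeal A'' • (⊤ : Submodule A'' (S'' ⧸ I'')) := by
          rw [show Ideal.Quotient.mk I'' k = Ideal.Quotient.mk I'' (comb σ'' q' c) from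
            Ideal.Quotient.eq.2 hc1, comb_quot, Finsupp.linearCombination_apply]
          refine sum_mem fun i _ => Submodule.smul_mem_smul (hloc _ ?_) Submodule.mem_top
          rw [show f'' (c i) = 0 by simpa using DFunLike.congr_fun hc0 i]
          exact zero_mem _
        refine Submodule.mem_sup.2 ⟨T at', ⟨at', rfl⟩, _, hkm, ?_⟩
        rw [hT, ← map_add, show comb σ'' r'' at' + k = y - w by simp only [k]; ring, map_sub,
          Ideal.Quotient.eq_zero_iff_mem.2 hw, sub_zero]
      have key : ∀ j : ℕ, ⊤ ≤ LinearMap.range T ⊔ (maximalIdeal A'' ^ j) • (⊤ : Submodule A'' (S'' ⧸ I'')) := by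
        intro j
        induction j with
        | zero => rw [pow_zero, Ideal.one_eq_top, Submodule.top_smul]; exact le_sup_right
        | succ j ih =>
          refine ih.trans (sup_le le_sup_left ?_)
          calc maximalIdeal A'' ^ j • (⊤ : Submodule A'' (S'' ⧸ I''))
              ≤ maximalIdeal A'' ^ j • (LinearMap.range T ⊔ maximalIdeal A'' • (⊤ : Submodule A'' (S'' ⧸ I''))) :=
                Submodule.smul_mono le_rfl fun q _ => step q
            _ = maximalIdeal A'' ^ j • LinearMap.range T ⊔ maximalIdeal A'' ^ (j + 1) • (⊤ : Submodule A'' (S'' ⧸ I'')) := by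
                rw [Submodule.smul_sup, ← Submodule.mul_smul, ← pow_succ]
            _ ≤ _ := sup_le_sup_right Submodule.smul_le_right _
      intro s
      obtain ⟨c, hc1⟩ : Ideal.Quotient.mk I'' s ∈ LinearMap.range T := by
        have := key n (Submodule.mem_top (x := Ideal.Quotient.mk I'' s))
        rwa [hn, Ideal.zero_eq_bot, Submodule.bot_smul, sup_bot_eq] at this
      exact ⟨c, Ideal.Quotient.eq.1 (hc1.symm.trans (hT c))⟩
    · intro c hc1
      have : T c = 0 := by rw [hT, Ideal.Quotient.eq_zero_iff_mem]; exact hc1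
      rw [show c = ψ (T c) from (LinearMap.congr_fun hψ c).symm, this, map_zero]
  have hπ'r : π' ∘ z = r' := funext hz'
  have hbasis : IsBasisMod σ (I'.comap π' ⊓ I''.comap π'') z := by
    refine ⟨fun s => ?_, fun c hc1 => ?_⟩
    · obtain ⟨c', hc'⟩ := hr'.1 (π' s)
      obtain ⟨c'', hc''⟩ := hr''.1 (π'' s)
      obtain ⟨c, hc1, hc2⟩ := glueCoeff hinj hex c' c'' (hr0.unique (s := φ' (π' s))
        (by rw [← g'.comb_map, ← map_sub]; exact Ideal.mem_map_of_mem _ hc')
        (by rw [hc, ← hr''0, ← g''.comb_map, ← map_sub, hJ]; exact Ideal.mem_map_of_mem _ hc''))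
      refine ⟨c, ?_, ?_⟩
      · show π' _ ∈ I'
        rw [map_sub, h'.comb_map, hc1, hπ'r]; exact hc'
      · show π'' _ ∈ I''
        rw [map_sub, h''.comb_map, hc2]; exact hc''
    · have e1 := hr'.2 (c.mapRange p' (map_zero _)) (by
        have := hc1.1
        rw [SetLike.mem_coe, Ideal.mem_comap, h'.comb_map, hπ'r] at this
        exact this)
      have e2 := hr''.2 (c.mapRange p'' (map_zero _)) (by
        have := hc1.2
        rw [SetLike.mem_coe, Ideal.mem_comap, h''.comb_map] at this
        exact this)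
      exact Finsupp.ext fun i => hinj _ (by simpa using DFunLike.congr_fun e1 i)
        (by simpa using DFunLike.congr_fun e2 i)
  refine ⟨hbasis.flat, le_antisymm ?_ fun y hy => ?_, le_antisymm ?_ fun y hy => ?_⟩
  · exact Ideal.map_le_iff_le_comap.2 inf_le_left
  · have h1 := Ideal.mem_map_of_mem φ' hy
    rw [hJ, Ideal.mem_map_iff_of_surjective φ'' hφ''] at h1
    obtain ⟨w, hw, hww⟩ := h1
    obtain ⟨s, hs1, hs2⟩ := hfib y w hww.symm
    rw [← hs1]
    refine Ideal.mem_map_of_mem _ ⟨?_, ?_⟩
    · show π' s ∈ I'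
      rw [hs1]; exact hy
    · show π'' s ∈ I''
      rw [hs2]; exact hw
  · exact Ideal.map_le_iff_le_comap.2 inf_le_right
  · obtain ⟨a, ha⟩ := (h''.push hbasis).1 y
    have hle : (I'.comap π' ⊓ I''.comap π'').map π'' ≤ I'' := Ideal.map_le_iff_le_comap.2 inf_le_right
    have := hr''.2 a (by
      convert sub_mem hy (hle ha) using 1
      show comb σ'' r'' a = y - (y - comb σ'' (π'' ∘ z) a)
      rw [sub_sub_cancel]; rfl)
    rw [this, map_zero, sub_zero] at ha
    exact ha

end Groth.Agent.HilbRS3
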